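import Groth.Agent.EtLim8.Adj
import Groth.Agent.EtFound.FiniteBaseChange
import Groth.Prelude.Def_EtCore

/-!
# The base change map in degree zero on sections, and vertical composition
-/

set_option autoImplicit false
set_option linter.unusedSectionVars false
set_option linter.style.haveILetI false
set_option backward.isDefEq.respectTransparency false
set_option backward.isDefEq.respectTransparency.types false

universe u

open CategoryTheory CategoryTheory.Limits AlgebraicGeometry Opposite

noncomputable section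

namespace Groth.Agent.BcQCalc

open EtLim8

variable {X S X' S' : Scheme.{u}} (f : X ⟶ S) (g : S' ⟶ S) (f' : X' ⟶ S') (g' : X' ⟶ X)
  (w : g' ≫ f = f' ≫ g) (F : EtCoh.Ab X)

/-- The transposed base change map, evaluated on sections. -/
theorem res_baseChange0 {V : S.Etale} {W : S'.Etale} {W' : X'.Etale} (a : W.left ⟶ V.left)
    (wa : a ≫ V.hom = W.hom ≫ g) (b : W'.left ⟶ W.left) (wb : b ≫ W.hom = W'.hom ≫ f')
    (c : W'.left ⟶ ((EtCoh.bc f).obj V).left) (wc : c ≫ ((EtCoh.bc f).obj V).hom = W'.hom ≫ g')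
    (hc : c ≫ bcFst f V = b ≫ a) (s : F.obj.obj (op ((EtCoh.bc f).obj V))) :
    res f' (𝟙 ((EtCoh.push f').obj ((EtCoh.pull g').obj F))) b wb
        (res g ((EtCoh.pullPushAdj g).homEquiv _ _ (EtCoh.baseChange0 f g f' g' w F)) a wa s) =
      res g' ((EtCoh.pullPushAdj g').unit.app F) c wc s := by
  have h : ((EtCoh.pullPushAdj g).homEquiv _ _ (EtCoh.baseChange0 f g f' g' w F)).hom.app (op V) =
      ((EtCoh.pullPushAdj g').unit.app F).hom.app (op ((EtCoh.bc f).obj V)) ≫
        ((EtCoh.pull g').obj F).obj.map (EtFound.bcSquare w V).op := by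
    rw [Adjunction.homEquiv_unit]
    exact EtFound.baseChange0_unit f g f' g' w F V
  change ((EtCoh.pull g').obj F).obj.map (liftBc f' b wb).op
    (((EtCoh.pull g').obj F).obj.map ((EtCoh.bc f').map (liftBc g a wa)).op
      (((EtCoh.pullPushAdj g).homEquiv _ _ (EtCoh.baseChange0 f g f' g' w F)).hom.app (op V) s)) =
    ((EtCoh.pull g').obj F).obj.map (liftBc g' c wc).op _
  rw [h]
  change ((EtCoh.pull g').obj F).obj.map _ (((EtCoh.pull g').obj F).obj.map _
    (((EtCoh.pull g').obj F).obj.map (EtFound.bcSquare w V).op _)) = _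
  rw [← Functor.map_comp_apply, ← Functor.map_comp_apply, ← op_comp, ← op_comp]
  refine congrArg (fun r => (((EtCoh.pull g').obj F).obj.map (Quiver.Hom.op r)).hom _) (hom_bc_ext ?_)
  rw [liftBc_fst]
  have e1 := EtFound.bcSquare_fst w V
  have e2 : ((EtCoh.bc f').map (liftBc g a wa)).left ≫ pullback.fst (pullback.snd V.hom g) f' =
      pullback.fst W.hom f' ≫ (liftBc g a wa).left :=
    (EtCoh.isPullback_bc_map f' (liftBc g a wa)).w
  refine pullback.hom_ext ?_ ?_
  · refine Eq.trans ?_ hc.symm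
    refine (Category.assoc _ _ _).trans ?_
    refine Eq.trans (congrArg (((liftBc f' b wb).left ≫ ((EtCoh.bc f').map (liftBc g a wa)).left) ≫ ·)
      ((Category.assoc _ _ _).trans e1)) ?_
    refine (Category.assoc _ _ _).trans ?_
    refine (congrArg ((liftBc f' b wb).left ≫ ·) ((Category.assoc _ _ _).symm.trans
      ((congrArg (· ≫ pullback.fst V.hom g) e2).trans (Category.assoc _ _ _)))).trans ?_
    refine (congrArg (fun r => (liftBc f' b wb).left ≫ pullback.fst W.hom f' ≫ r) (pullback.lift_fst _ _ _)).trans ?_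
    exact (Category.assoc _ _ _).symm.trans (congrArg (· ≫ a) (liftBc_fst f' b wb))
  · refine Eq.trans ?_ wc.symm
    refine Eq.trans (Category.assoc _ _ _) ?_
    refine (congrArg (_ ≫ ·) pullback.condition).trans ?_
    refine (Category.assoc _ _ _).symm.trans (congrArg (· ≫ g') ?_)
    exact MorphismProperty.Over.w (liftBc f' b wb ≫ (EtCoh.bc f').map (liftBc g a wa) ≫ EtFound.bcSquare w V)

theorem res_id_bcFst {G : EtCoh.Ab X'} (W : S'.Etale) (y : ((EtCoh.push f').obj G).obj.obj (op W)) :
    res f' (𝟙 ((EtCoh.push f').obj G)) (bcFst f' W) (bcFst_w f' W) y = y :=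
  res_bcFst _ W y

variable {S'' X'' : Scheme.{u}} (i : S'' ⟶ S') (f'' : X'' ⟶ S'') (k : X'' ⟶ X') (w' : k ≫ f' = f'' ≫ i)
  (w'' : (k ≫ g') ≫ f = f'' ≫ (i ≫ g))

set_option maxHeartbeats 1000000 in
/-- Vertical composition of base change maps in degree zero. -/
theorem baseChange0_vcomp :
    EtCoh.baseChange0 f (i ≫ g) f'' (k ≫ g') w'' F =
      (EtCore.pullComp i g).hom.app ((EtCoh.push f).obj F) ≫
        (EtCoh.pull i).map (EtCoh.baseChange0 f g f' g' w F) ≫
        EtCoh.baseChange0 f' i f'' k w' ((EtCoh.pull g').obj F) ≫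
        (EtCoh.push f'').map ((EtCore.pullComp k g').inv.app F) := by
  let α := EtCoh.baseChange0 f g f' g' w F
  let β := EtCoh.baseChange0 f' i f'' k w' ((EtCoh.pull g').obj F) ≫
    (EtCoh.push f'').map ((EtCore.pullComp k g').inv.app F)
  have hR := compat_of_pullComp (t₁ := g) (t₂ := i) (t₃ := i ≫ g) rfl α β
    ((EtCore.pullComp i g).hom.app _ ≫ (EtCoh.pull i).map α ≫ β) (by simp [EtCore.pullCongr])
  have hu := compat_of_pullComp (t₁ := g') (t₂ := k) (t₃ := k ≫ g') rfl (𝟙 ((EtCoh.pull g').obj F))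
    ((EtCore.pullComp k g').inv.app F) (𝟙 _) (by simp [EtCore.pullCongr])
  have hL : Compat ((EtCoh.pullPushAdj g).homEquiv _ _ α) ((EtCoh.pullPushAdj i).homEquiv _ _ β)
      ((EtCoh.pullPushAdj (i ≫ g)).homEquiv _ _ (EtCoh.baseChange0 f (i ≫ g) f'' (k ≫ g') w'' F)) := by
    intro V W W' a wa b wb e we he s
    let K := (EtCoh.pull (k ≫ g')).obj F
    let c := (EtCore.pullComp k g').inv.app F
    refine (res_id_bcFst f'' W' _).symm.trans (Eq.trans ?_ (res_id_bcFst f'' W' _))
    let P := (EtCoh.bc f').obj W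
    let P' := (EtCoh.bc f'').obj W'
    let q : P'.left ⟶ P.left := pullback.lift (bcFst f'' W' ≫ b) (P'.hom ≫ k) (by
      rw [Category.assoc, wb, Category.assoc]
      refine (Category.assoc _ _ _).symm.trans ((congrArg (· ≫ i) (bcFst_w f'' W')).trans ?_)
      rw [Category.assoc, ← w'])
    have wq : q ≫ P.hom = P'.hom ≫ k := pullback.lift_snd _ _ _
    have hq : q ≫ bcFst f' W = bcFst f'' W' ≫ b := pullback.lift_fst _ _ _
    let r : P.left ⟶ ((EtCoh.bc f).obj V).left := pullback.lift (bcFst f' W ≫ a) (P.hom ≫ g') (by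
      rw [Category.assoc, wa]
      refine (Category.assoc _ _ _).symm.trans ((congrArg (· ≫ g) (bcFst_w f' W)).trans ?_)
      rw [Category.assoc, Category.assoc, ← w])
    have wr : r ≫ ((EtCoh.bc f).obj V).hom = P.hom ≫ g' := pullback.lift_snd _ _ _
    have hr : r ≫ bcFst f V = bcFst f' W ≫ a := pullback.lift_fst _ _ _
    have wqr : (q ≫ r) ≫ ((EtCoh.bc f).obj V).hom = P'.hom ≫ k ≫ g' := by
      rw [Category.assoc, wr, ← Category.assoc, wq, Category.assoc]
    have hqr : (q ≫ r) ≫ bcFst f V = bcFst f'' W' ≫ e := by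
      rw [Category.assoc, hr, ← Category.assoc, hq, Category.assoc, he]
    rw [res_baseChange0 f (i ≫ g) f'' (k ≫ g') w'' F e we (bcFst f'' W') (bcFst_w f'' W') (q ≫ r) wqr hqr s]
    have e1 : res g ((EtCoh.pullPushAdj g).homEquiv _ _ α) a wa s =
        res g' ((EtCoh.pullPushAdj g').unit.app F) r wr s :=
      (res_id_bcFst f' W _).symm.trans
        (res_baseChange0 f g f' g' w F a wa (bcFst f' W) (bcFst_w f' W) r wr hr s)
    rw [e1, show (EtCoh.pullPushAdj i).homEquiv _ _ β = (EtCoh.pullPushAdj i).homEquiv _ _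
        (EtCoh.baseChange0 f' i f'' k w' ((EtCoh.pull g').obj F)) ≫
        (EtCoh.push i).map ((EtCoh.push f'').map c) from Adjunction.homEquiv_naturality_right _ _ _,
      res_comp_push_map]
    have e2 := res_baseChange0 f' i f'' k w' ((EtCoh.pull g').obj F) b wb (bcFst f'' W') (bcFst_w f'' W')
      q wq hq (res g' ((EtCoh.pullPushAdj g').unit.app F) r wr s)
    rw [res_id_bcFst] at e2
    rw [res_id_bcFst]
    refine (congrArg (((EtCoh.push f'').map c).hom.app (op W')).hom e2).trans ?_
    have e3 := hu _ P P' r wr q wq (q ≫ r) wqr rfl s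
    simp only [Adjunction.homEquiv_unit, CategoryTheory.Functor.map_id, Category.comp_id] at e3
    exact (res_comp_push_map _ c q wq _).symm.trans e3
  exact ((EtCoh.pullPushAdj (i ≫ g)).homEquiv _ _).injective (Compat.unique rfl hL hR)

end Groth.Agent.BcQCalc
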