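import Groth.Agent.BcQCalc.TorsionEmbed
import Groth.Agent.BcQCalc.Bc0
import Groth.Agent.EtLim8.HMaps
import Groth.Prelude.Def_EtBC2

/-!
# Comparison of cohomology after base change
-/

set_option autoImplicit false
set_option linter.unusedSectionVars false
set_option linter.style.haveILetI false
set_option backward.isDefEq.respectTransparency false
set_option backward.isDefEq.respectTransparency.types false

universe u

open CategoryTheory CategoryTheory.Limits AlgebraicGeometry Opposite Abelian

noncomputable section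

namespace Groth.Agent.BcQCalc

open EtFound

variable {A B : Scheme.{u}} (f : A ⟶ B)

/-- A short complex whose middle term is injective. -/
def embSES (M : EtCoh.Ab A) : ShortComplex (EtCoh.Ab A) :=
  ShortComplex.mk (Injective.ι M) (cokernel.π (Injective.ι M)) (cokernel.condition _)

theorem embSES_shortExact (M : EtCoh.Ab A) : (embSES M).ShortExact :=
  { exact := ShortComplex.exact_of_g_is_cokernel _ (cokernelIsCokernel _)
    mono_f := inferInstanceAs (Mono (Injective.ι M))
    epi_g := inferInstanceAs (Epi (cokernel.π _)) }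

theorem subsingleton_H_one_iff {S : ShortComplex (EtCoh.Ab A)} (hS : S.ShortExact) [Injective S.X₂] :
    Subsingleton (EtCoh.H A S.X₁ 1) ↔ Function.Surjective (S.g.hom.app (op (EtCoh.top A))).hom := by
  let e₂ := Sheaf.H.equiv₀ S.X₂ (EtCore.topIsTerminal A)
  let e₃ := Sheaf.H.equiv₀ S.X₃ (EtCore.topIsTerminal A)
  refine ⟨fun h y => ?_, fun h => subsingleton_of_forall_eq 0 fun x => ?_⟩
  · obtain ⟨z, hz⟩ := Ext.covariant_sequence_exact₃ _ hS (e₃.symm y) (rfl : (0:ℕ) + 1 = 1)
      (h.allEq _ _)
    refine ⟨e₂ z, ?_⟩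
    refine (Sheaf.H.equiv₀_naturality (EtCore.topIsTerminal A) S.g z).trans ?_
    exact (congrArg e₃ hz).trans (e₃.apply_symm_apply y)
  · obtain ⟨z, rfl⟩ := Ext.covariant_sequence_exact₁ _ hS x (Ext.eq_zero_of_injective _) (rfl : (0:ℕ) + 1 = 1)
    obtain ⟨y, hy⟩ := h (e₃ z)
    have hz : z = (e₂.symm y).comp (Ext.mk₀ S.g) (add_zero 0) := by
      refine e₃.injective (hy.symm.trans ?_)
      refine Eq.trans ?_ (Sheaf.H.equiv₀_naturality (EtCore.topIsTerminal A) S.g _)
      exact congrArg _ (e₂.apply_symm_apply y).symm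
    rw [hz, Ext.comp_assoc_of_second_deg_zero]
    erw [hS.comp_extClass]
    simp

theorem subsingleton_H_succ_iff {S : ShortComplex (EtCoh.Ab A)} (hS : S.ShortExact) [Injective S.X₂] (q : ℕ) :
    Subsingleton (EtCoh.H A S.X₁ (q + 2)) ↔ Subsingleton (EtCoh.H A S.X₃ (q + 1)) := by
  refine ⟨fun h => subsingleton_of_forall_eq 0 fun z => ?_, fun h => subsingleton_of_forall_eq 0 fun x => ?_⟩
  · obtain ⟨w, hw⟩ := Ext.covariant_sequence_exact₃ _ hS z (rfl : (q + 1) + 1 = q + 2) (h.allEq _ _)
    rw [← hw, Ext.eq_zero_of_injective w, Ext.zero_comp]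
  · obtain ⟨z, rfl⟩ := Ext.covariant_sequence_exact₁ _ hS x (Ext.eq_zero_of_injective _) (rfl : (q + 1) + 1 = q + 2)
    have hz0 := h.allEq z 0
    erw [hz0]
    simp

theorem surjective_push_top_iff {M N : EtCoh.Ab A} (a : M ⟶ N) :
    Function.Surjective (((EtCoh.push f).map a).hom.app (op (EtCoh.top B))).hom ↔
      Function.Surjective (a.hom.app (op (EtCoh.top A))).hom := by
  let eM := ((EtCore.pushGsecIso f).app M).addCommGroupIsoToAddEquiv
  let eN := ((EtCore.pushGsecIso f).app N).addCommGroupIsoToAddEquiv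
  have h : ∀ x, eN ((((EtCoh.push f).map a).hom.app (op (EtCoh.top B))).hom x) =
      (a.hom.app (op (EtCoh.top A))).hom (eM x) := fun x =>
    ConcreteCategory.congr_hom ((EtCore.pushGsecIso f).hom.naturality a) x
  refine ⟨fun hs y => ?_, fun hs y => ?_⟩
  · obtain ⟨x, hx⟩ := hs (eN.symm y)
    exact ⟨eM x, (h x).symm.trans ((congrArg eN hx).trans (eN.apply_symm_apply y))⟩
  · obtain ⟨x, hx⟩ := hs (eN y)
    exact ⟨eM.symm x, eN.injective ((h _).trans ((congrArg _ (eM.apply_symm_apply x)).trans hx))⟩

theorem push_shortExact {S : ShortComplex (EtCoh.Ab A)} (hS : S.ShortExact)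
    (h1 : IsZero ((EtCoh.Rpush f 1).obj S.X₁)) : (S.map (EtCoh.push f)).ShortExact := by
  haveI : (EtCoh.push f).IsRightAdjoint := (EtCoh.pullPushAdj f).isRightAdjoint
  haveI := hS.mono_f
  let T := SESResLib.derivedLES (EtCoh.push f)
  haveI : Epi (((EtCoh.push f).rightDerived 0).map S.g) :=
    (T.exact₃ S hS 0 1 rfl).epi_f (h1.eq_of_tgt _ _)
  haveI : Epi ((EtCoh.push f).map S.g) := epi_of_natIso (EtCoh.push f).rightDerivedZeroIsoSelf.symm S.g
  exact { exact := ShortComplex.exact_of_f_is_kernel _
            ((KernelFork.isLimitMapConeEquiv _ _).1 (isLimitOfPreserves (EtCoh.push f) hS.fIsKernel))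
          mono_f := inferInstanceAs (Mono ((EtCoh.push f).map S.f))
          epi_g := inferInstanceAs (Epi ((EtCoh.push f).map S.g)) }

/-- Vanishing passes between a sheaf and its acyclic direct image. -/
theorem subsingleton_H_push_iff :
    ∀ (q : ℕ) (M : EtCoh.Ab A), (∀ j, j ≤ q → IsZero ((EtCoh.Rpush f (j + 1)).obj M)) →
      (Subsingleton (EtCoh.H A M (q + 1)) ↔ Subsingleton (EtCoh.H B ((EtCoh.push f).obj M) (q + 1))) := by
  haveI := EtFound.pull_preservesFiniteLimits f
  haveI : (EtCoh.pull f).PreservesMonomorphisms := inferInstance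
  intro q
  induction q with
  | zero =>
    intro M h
    have hS := embSES_shortExact M
    haveI : Injective (embSES M).X₂ := inferInstanceAs (Injective (Injective.under M))
    have hS' := push_shortExact f hS (h 0 le_rfl)
    haveI : Injective ((embSES M).map (EtCoh.push f)).X₂ :=
      Injective.injective_of_adjoint (EtCoh.pullPushAdj f) (embSES M).X₂
    exact (subsingleton_H_one_iff hS).trans
      ((surjective_push_top_iff f (embSES M).g).symm.trans (subsingleton_H_one_iff hS').symm)
  | succ q ih =>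
    intro M h
    have hS := embSES_shortExact M
    haveI : Injective (embSES M).X₂ := inferInstanceAs (Injective (Injective.under M))
    have hS' := push_shortExact f hS (h 0 (Nat.zero_le _))
    haveI : Injective ((embSES M).map (EtCoh.push f)).X₂ :=
      Injective.injective_of_adjoint (EtCoh.pullPushAdj f) (embSES M).X₂
    haveI : (EtCoh.push f).IsRightAdjoint := (EtCoh.pullPushAdj f).isRightAdjoint
    let T := SESResLib.derivedLES (EtCoh.push f)
    refine (subsingleton_H_succ_iff hS q).trans ((ih _ fun j hj => ?_).trans (subsingleton_H_succ_iff hS' q).symm)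
    exact (T.exact₃ (embSES M) hS (j + 1) (j + 2) rfl).isZero_X₂
      (((EtCoh.push f).isZero_rightDerived_obj_injective_succ j (embSES M).X₂).eq_of_src _ _)
      ((h (j + 1) (by omega)).eq_of_tgt _ _)

section Torsion

variable (L : Set ℕ) [QuasiCompact f] [QuasiSeparated f]

theorem isLTorsion_push {F : EtCoh.Ab A} (hF : EtAcyc.IsLTorsion L F) :
    EtAcyc.IsLTorsion L ((EtCoh.push f).obj F) := by
  intro U s x
  obtain ⟨W, g, w, hW, hw⟩ := EtLC12.RpushTorsion.exists_affine_nhd x
  let V := (EtCoh.bc f).obj W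
  let t : F.obj.obj (op V) := (((EtCoh.push f).obj F).obj.map g.op).hom s
  let a : F ⟶ Injective.under F := Injective.ι F
  haveI := preservesColimitsOfShape_sections_qcqs_ab V (EtLC12.RpushTorsion.isQcqsObj_bc f W hW) (ULift.{u + 1} ℕ)
  let hc := isColimitOfPreserves (sheafToPresheaf A.smallEtaleTopology AddCommGrpCat.{u + 1} ⋙
    (evaluation A.Etaleᵒᵖ AddCommGrpCat.{u + 1}).obj (op V)) (colimit.isColimit (locD L (Injective.under F)))
  have h0 : ((toLoc L (Injective.under F)).hom.app (op V)).hom ((a.hom.app (op V)).hom t) = 0 :=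
    congrArg (fun r : F ⟶ loc L (Injective.under F) => (r.hom.app (op V)).hom t) (comp_toLoc_eq_zero L _ hF a)
  obtain ⟨k, u, v, huv⟩ := Concrete.isColimit_exists_of_rep_eq _ hc (i := (⟨0⟩ : ULift.{u + 1} ℕ))
    (j := ⟨0⟩) ((a.hom.app (op V)).hom t) 0 (h0.trans (map_zero _).symm)
  refine ⟨W, g, lnum L k.down, ⟨w, hw⟩, primesIn_lnum L _, ?_⟩
  have hm : Mono (a.hom.app (op V)) := by
    haveI : Mono a := inferInstanceAs (Mono (Injective.ι F))
    exact inferInstanceAs (Mono ((sheafToPresheaf _ _ ⋙ (evaluation _ _).obj (op V)).map a))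
  refine (AddCommGrpCat.mono_iff_injective (a.hom.app (op V))).1 hm ?_
  refine (map_nsmul _ _ _).trans (Eq.trans ?_ (map_zero _).symm)
  refine (nsmul_id_app (Injective.under F) (lnum L k.down) (op V) _).symm.trans ?_
  refine (congrArg (fun r : Injective.under F ⟶ Injective.under F => (r.hom.app (op V)).hom _)
    (locD_map_zero L (Injective.under F) k u)).symm.trans (huv.trans (map_zero _))

end Torsion

end Groth.Agent.BcQCalc
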