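import Groth.Agent.BcQCalc.StalkBC
import Groth.Agent.EtFound.FieldExt
import Mathlib.AlgebraicGeometry.Morphisms.QuasiSeparated

/-!
# The criterion by strict localizations
-/

set_option autoImplicit false
set_option linter.unusedSectionVars false
set_option linter.unusedVariables false
set_option linter.style.haveILetI false
set_option backward.isDefEq.respectTransparency false
set_option backward.isDefEq.respectTransparency.types false

universe u

open CategoryTheory CategoryTheory.Limits AlgebraicGeometry Opposite Abelian IsLocalRing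

noncomputable section

namespace Groth.Agent.BcQCalc

open RpushStalk

attribute [local instance] EtFound.pull_preservesFiniteLimits

/-- Bijectivity of a relative pullback map does not change along isomorphisms of cones. -/
theorem bijective_HpullVia_iff {T P P' Q Q' : Scheme.{u}} (m : Q ⟶ P) [PreservesFiniteLimits (EtCoh.pull m)]
    (a : P ⟶ T) (b : Q ⟶ T) (w : m ≫ a = b) (m' : Q' ⟶ P') [PreservesFiniteLimits (EtCoh.pull m')] (a' : P' ⟶ T)
    (θP : P ⟶ P') [IsIso θP] (θQ : Q ⟶ Q') [IsIso θQ] (hP : θP ≫ a' = a) (hsq : θQ ≫ m' = m ≫ θP)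
    (F : EtCoh.Ab T) (q : ℕ) :
    Function.Bijective (EtCore.HpullVia m a b w F q) ↔
      Function.Bijective (EtCore.Hpull m' ((EtCoh.pull a').obj F) q) := by
  have e0 : ⇑(EtCore.HpullVia m a b w F q) = (fun x : EtCoh.H Q ((EtCoh.pull m).obj ((EtCoh.pull a).obj F)) q =>
      x.comp (Ext.mk₀ (((EtCore.pullComp m a).symm ≪≫ EtCore.pullCongr w).app F).hom) (add_zero q)) ∘
      ⇑(EtCore.Hpull m ((EtCoh.pull a).obj F) q) := rfl
  rw [e0, Function.Bijective.of_comp_iff' (EtAcycLib.bijective_comp_mk₀ _),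
    bijective_Hpull_iso m ((EtCore.pullCongr hP.symm ≪≫ EtCore.pullComp θP a').app F) q]
  let G := (EtCoh.pull a').obj F
  have h1 : Function.Bijective (EtCore.Hpull θP G q) := EtAcycLib.bijective_Hpull_of_isIso θP G q
  have h2 : Function.Bijective (EtCore.Hpull θQ ((EtCoh.pull m').obj G) q) :=
    EtAcycLib.bijective_Hpull_of_isIso θQ _ q
  have l := (EtAcycLib.bijective_Hpull_comp_iff m θP (m ≫ θP) rfl G q).1
  have r := (EtAcycLib.bijective_Hpull_comp_iff θQ m' (m ≫ θP) hsq G q).1
  exact (Function.Bijective.of_comp_iff _ h1).symm.trans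
    (l.symm.trans (r.trans (Function.Bijective.of_comp_iff' h2 _)))

variable {X S Y T : Scheme.{u}} (f : X ⟶ S)

/-- The morphism of strict localizations. -/
theorem specMap_psi (x : X) (RS : Type u) [CommRing RS] [Algebra (S.presheaf.stalk (f.base x)) RS]
    (RX : Type u) [CommRing RX] [Algebra (X.presheaf.stalk x) RX] (ψ : RS →+* RX)
    (hψ : ψ.comp (algebraMap (S.presheaf.stalk (f.base x)) RS) =
      (algebraMap (X.presheaf.stalk x) RX).comp (f.stalkMap x).hom) :
    Spec.map (CommRingCat.ofHom ψ) ≫ Hens2.specOf S (f.base x) RS = Hens2.specOf X x RX ≫ f := by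
  have e : CommRingCat.ofHom (algebraMap (S.presheaf.stalk (f.base x)) RS) ≫ CommRingCat.ofHom ψ =
      f.stalkMap x ≫ CommRingCat.ofHom (algebraMap (X.presheaf.stalk x) RX) :=
    CommRingCat.hom_ext hψ
  rw [Hens2.specOf, Hens2.specOf, Category.assoc, ← Spec.map_comp_assoc, e, Spec.map_comp_assoc,
    Scheme.SpecMap_stalkMap_fromSpecStalk]

theorem residue_square {RS RX : Type u} [CommRing RS] [IsLocalRing RS] [CommRing RX] [IsLocalRing RX]
    (ψ : RS →+* RX) [IsLocalHom ψ] :
    Spec.map (CommRingCat.ofHom (ResidueField.map ψ)) ≫ Spec.map (CommRingCat.ofHom (residue RS)) =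
      Spec.map (CommRingCat.ofHom (residue RX)) ≫ Spec.map (CommRingCat.ofHom ψ) := by
  rw [← Spec.map_comp, ← Spec.map_comp]
  exact congrArg Spec.map (CommRingCat.hom_ext (RingHom.ext fun a => ResidueField.map_residue ψ a))

variable (g : T ⟶ S) (h : Y ⟶ X) (e : Y ⟶ T) (c : IsPullback e h g f) [QuasiCompact g] [QuasiSeparated g]

/-- At one point: the stalk of the base change map and the pullback between strict localizations. -/
theorem bijective_stalk_iff_HpullVia [PreservesFiniteLimits (EtCoh.pull e)] (F : EtCoh.Ab T) (q : ℕ) (x : X)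
    (RS : Type u) [CommRing RS] [IsLocalRing RS] [Algebra (S.presheaf.stalk (f.base x)) RS]
    [IsLocalHom (algebraMap (S.presheaf.stalk (f.base x)) RS)]
    [_root_.Hensel.IsStrictHenselization (S.presheaf.stalk (f.base x)) RS]
    (RX : Type u) [CommRing RX] [IsLocalRing RX] [Algebra (X.presheaf.stalk x) RX]
    [IsLocalHom (algebraMap (X.presheaf.stalk x) RX)] [_root_.Hensel.IsStrictHenselization (X.presheaf.stalk x) RX]
    [IsSepClosed (ResidueField RS)] [IsSepClosed (ResidueField RX)]
    (ψ : RS →+* RX) [IsLocalHom ψ]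
    (hψ : ψ.comp (algebraMap (S.presheaf.stalk (f.base x)) RS) =
      (algebraMap (X.presheaf.stalk x) RX).comp (f.stalkMap x).hom)
    (PS PX : Scheme.{u}) (aS : PS ⟶ T) (bS : PS ⟶ Spec (CommRingCat.of RS))
    (cS : IsPullback aS bS g (Hens2.specOf S (f.base x) RS))
    (aX : PX ⟶ T) (bX : PX ⟶ Spec (CommRingCat.of RX))
    (cX : IsPullback aX bX g (Hens2.specOf X x RX ≫ f))
    (m : PX ⟶ PS) (w : m ≫ aS = aX) (hm : m ≫ bS = bX ≫ Spec.map (CommRingCat.ofHom ψ))
    [PreservesFiniteLimits (EtCoh.pull m)] :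
    Function.Bijective ((EtCoh.stalk (Hens2.geomPt X x RX)).map (EtBC.bcQ g f h e c.w q F)) ↔
      Function.Bijective (EtCore.HpullVia m aS aX w F q) := by
  haveI : HenselianLocalRing RS := _root_.Hensel.IsStrictHenselization.henselian (R := S.presheaf.stalk (f.base x))
  haveI : HenselianLocalRing RX := _root_.Hensel.IsStrictHenselization.henselian (R := X.presheaf.stalk x)
  obtain ⟨DS⟩ := exists_model S (f.base x) RS
  obtain ⟨DX⟩ := exists_model X x RX
  haveI : QuasiCompact h := MorphismProperty.of_isPullback c ‹QuasiCompact g›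
  haveI : QuasiSeparated h := MorphismProperty.of_isPullback c ‹QuasiSeparated g›
  let hS := Hens2.specOf S (f.base x) RS
  let hX := Hens2.specOf X x RX
  have hψ' := specMap_psi f x RS RX ψ hψ
  refine Iff.trans (bijective_stalk_bcQ_iff f g h e c.w DS DX (Spec.map (CommRingCat.ofHom ψ)) hψ'
    (Spec.map (CommRingCat.ofHom (ResidueField.map ψ))) (residue_square ψ) F q) ?_
  have big : IsPullback (pullback.snd hX h ≫ e) (pullback.fst hX h) g (hX ≫ f) :=
    (IsPullback.of_hasPullback hX h).flip.paste_horiz c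
  let θS := cS.isoIsPullback _ _ (IsPullback.of_hasPullback hS g).flip
  let θX := cX.isoIsPullback _ _ big
  refine (bijective_HpullVia_iff m aS aX w (fibMap f g h e c.w (Spec.map (CommRingCat.ofHom ψ)) hψ')
    (pullback.snd hS g) θS.hom θX.hom (cS.isoIsPullback_hom_fst _ _ _) ?_ F q).symm
  refine pullback.hom_ext ?_ ?_
  · rw [Category.assoc, fibMap_fst, Category.assoc, cS.isoIsPullback_hom_snd, hm, ← Category.assoc]
    exact congrArg (· ≫ _) (cX.isoIsPullback_hom_snd _ _ big)
  · rw [Category.assoc, fibMap_snd, Category.assoc, cS.isoIsPullback_hom_fst, w]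
    exact cX.isoIsPullback_hom_fst _ _ big

/-- The base change map is an isomorphism iff the pullback maps between strict localizations are bijective. -/
theorem isIso_bcQ_iff_strict [PreservesFiniteLimits (EtCoh.pull e)] (F : EtCoh.Ab T) (q : ℕ) :
    (∀ (x : X) (RS : Type u) [CommRing RS] [IsLocalRing RS] [Algebra (S.presheaf.stalk (f.base x)) RS]
      [IsLocalHom (algebraMap (S.presheaf.stalk (f.base x)) RS)]
      [_root_.Hensel.IsStrictHenselization (S.presheaf.stalk (f.base x)) RS]
      (RX : Type u) [CommRing RX] [IsLocalRing RX] [Algebra (X.presheaf.stalk x) RX]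
      [IsLocalHom (algebraMap (X.presheaf.stalk x) RX)] [_root_.Hensel.IsStrictHenselization (X.presheaf.stalk x) RX]
      (ψ : RS →+* RX) [IsLocalHom ψ],
      ψ.comp (algebraMap (S.presheaf.stalk (f.base x)) RS) = (algebraMap (X.presheaf.stalk x) RX).comp (f.stalkMap x).hom →
      ∀ (PS PX : Scheme.{u}) (aS : PS ⟶ T) (bS : PS ⟶ Spec (CommRingCat.of RS))
        (_ : IsPullback aS bS g (Hens2.specOf S (f.base x) RS))
        (aX : PX ⟶ T) (bX : PX ⟶ Spec (CommRingCat.of RX))
        (_ : IsPullback aX bX g (Hens2.specOf X x RX ≫ f))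
        (m : PX ⟶ PS) (w : m ≫ aS = aX), m ≫ bS = bX ≫ Spec.map (CommRingCat.ofHom ψ) →
        ∀ [PreservesFiniteLimits (EtCoh.pull m)], Function.Bijective (EtCore.HpullVia m aS aX w F q)) ↔
    IsIso (EtBC.bcQ g f h e c.w q F) := by
  constructor
  · intro H
    refine (EtFound.isIso_iff_stalks _).2 fun Ω _ _ ξ => ?_
    let x : X := ξ (closedPoint Ω)
    obtain ⟨RS, _, _, _, _, hRS⟩ := exists_strictHens (S.presheaf.stalk (f.base x))
    obtain ⟨RX, _, _, _, _, hRX⟩ := exists_strictHens (X.presheaf.stalk x)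
    haveI : IsSepClosed (ResidueField RS) := isSepClosed_residueField_of_strict (S.presheaf.stalk (f.base x)) RS
    haveI : IsSepClosed (ResidueField RX) := isSepClosed_residueField_of_strict (X.presheaf.stalk x) RX
    haveI : HenselianLocalRing RS := _root_.Hensel.IsStrictHenselization.henselian (R := S.presheaf.stalk (f.base x))
    haveI : HenselianLocalRing RX := _root_.Hensel.IsStrictHenselization.henselian (R := X.presheaf.stalk x)
    obtain ⟨ψ, hψl, hψ⟩ := exists_strictMap (R := RS) (R' := RX) (f.stalkMap x).hom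
    haveI := hψl
    let hS := Hens2.specOf S (f.base x) RS
    let hX := Hens2.specOf X x RX
    have hψ' := specMap_psi f x RS RX ψ hψ
    have cS : IsPullback (pullback.snd hS g) (pullback.fst hS g) g hS := (IsPullback.of_hasPullback hS g).flip
    have cX : IsPullback (pullback.snd hX h ≫ e) (pullback.fst hX h) g (hX ≫ f) :=
      (IsPullback.of_hasPullback hX h).flip.paste_horiz c
    have hb : Function.Bijective ((EtCoh.stalk (Hens2.geomPt X x RX)).map (EtBC.bcQ g f h e c.w q F)) :=
      (bijective_stalk_iff_HpullVia f g h e c F q x RS RX ψ hψ _ _ _ _ cS _ _ cX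
        (fibMap f g h e c.w (Spec.map (CommRingCat.ofHom ψ)) hψ') (fibMap_snd _ _ _ _ _ _ _) (fibMap_fst _ _ _ _ _ _ _)).2
        (H x RS RX ψ hψ _ _ _ _ cS _ _ cX _ (fibMap_snd _ _ _ _ _ _ _) (fibMap_fst _ _ _ _ _ _ _))
    obtain ⟨l, hl⟩ := exists_fac_geomPt ξ RX
    haveI : IsIso ((EtCoh.stalk (Hens2.geomPt X x RX)).map (EtBC.bcQ g f h e c.w q F)) :=
      (ConcreteCategory.isIso_iff_bijective _).2 hb
    have h2 := (NatIso.isIso_map_iff (EtFound.stalkExtIso AddCommGrpCat.{u + 1} (Hens2.geomPt X x RX) l)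
      (EtBC.bcQ g f h e c.w q F)).1 this
    exact hl ▸ h2
  · intro hi x RS _ _ _ _ _ RX _ _ _ _ _ ψ _ hψ PS PX aS bS cS aX bX cX m w hm _
    haveI : IsSepClosed (ResidueField RS) := isSepClosed_residueField_of_strict (S.presheaf.stalk (f.base x)) RS
    haveI : IsSepClosed (ResidueField RX) := isSepClosed_residueField_of_strict (X.presheaf.stalk x) RX
    haveI := hi
    exact (bijective_stalk_iff_HpullVia f g h e c F q x RS RX ψ hψ PS PX aS bS cS aX bX cX m w hm).1
      (ConcreteCategory.bijective_of_isIso ((EtCoh.stalk (Hens2.geomPt X x RX)).map (EtBC.bcQ g f h e c.w q F)))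

end Groth.Agent.BcQCalc
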