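import Groth.Agent.BcQCalc.StalkLink
import Groth.Agent.BcQCalc.Bc0
import Groth.Agent.RpushStalk.Phi

/-!
# The stalk of the base change map is the restriction between strict localizations
-/

set_option autoImplicit false
set_option linter.unusedSectionVars false
set_option linter.unusedVariables false
set_option linter.style.haveILetI false
set_option backward.isDefEq.respectTransparency false
set_option backward.isDefEq.respectTransparency.types false

universe u

open CategoryTheory CategoryTheory.Limits AlgebraicGeometry Opposite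

noncomputable section

namespace Groth.Agent.BcQCalc

open EtLim8 RpushStalk

variable {X S Y T : Scheme.{u}} (f : X ⟶ S) (g : T ⟶ S) (h : Y ⟶ X) (e : Y ⟶ T) (w : e ≫ g = h ≫ f)
  {RS RX : Type u} [CommRing RS] [HenselianLocalRing RS] [IsSepClosed (IsLocalRing.ResidueField RS)]
  [CommRing RX] [HenselianLocalRing RX] [IsSepClosed (IsLocalRing.ResidueField RX)]
  {hS : Spec (CommRingCat.of RS) ⟶ S} {hX : Spec (CommRingCat.of RX) ⟶ X}
  (ψ : Spec (CommRingCat.of RX) ⟶ Spec (CommRingCat.of RS)) (hψ : ψ ≫ hS = hX ≫ f)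

/-- The induced morphism of fibres over the strict localizations. -/
def fibMap : pullback hX h ⟶ pullback hS g :=
  pullback.lift (pullback.fst hX h ≫ ψ) (pullback.snd hX h ≫ e) (by
    rw [Category.assoc, hψ, Category.assoc, w, pullback.condition_assoc])

theorem fibMap_snd : fibMap f g h e w ψ hψ ≫ pullback.snd hS g = pullback.snd hX h ≫ e :=
  pullback.lift_snd _ _ _

theorem fibMap_fst : fibMap f g h e w ψ hψ ≫ pullback.fst hS g = pullback.fst hX h ≫ ψ :=
  pullback.lift_fst _ _ _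

/-- Composition with the comparison of iterated inverse images. -/
def viaK {P Q : Scheme.{u}} {r : P ⟶ T} (m : Q ⟶ P) {t : Q ⟶ T} (hw : m ≫ r = t) (G : EtCoh.Ab T)
    {K : EtCoh.Ab Q} (κ : (EtCoh.pull t).obj G ⟶ K) : (EtCoh.pull m).obj ((EtCoh.pull r).obj G) ⟶ K :=
  (EtCore.pullComp m r).inv.app G ≫ (EtCore.pullCongr hw).hom.app G ≫ κ

theorem compat_aux {P Q : Scheme.{u}} {r : P ⟶ T} (m : Q ⟶ P) {t : Q ⟶ T} (hw : m ≫ r = t) (G : EtCoh.Ab T)
    {K : EtCoh.Ab Q} (κ : (EtCoh.pull t).obj G ⟶ K) :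
    Compat ((EtCoh.pullPushAdj r).unit.app G)
      ((EtCoh.pullPushAdj m).homEquiv _ _ (viaK m hw G κ))
      ((EtCoh.pullPushAdj t).homEquiv _ _ κ) := by
  subst hw
  have hc := compat_of_pullComp (t₁ := r) (t₂ := m) (t₃ := m ≫ r) rfl (𝟙 ((EtCoh.pull r).obj G))
    ((EtCore.pullComp m r).inv.app G ≫ κ) κ (by
      simp only [EtCore.pullCongr, eqToIso_refl, Iso.refl_trans, CategoryTheory.Functor.map_id, Category.id_comp]
      exact (Iso.hom_inv_id_app_assoc (EtCore.pullComp m r) G κ).symm)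
  rw [Adjunction.homEquiv_unit, CategoryTheory.Functor.map_id] at hc
  erw [Category.comp_id] at hc
  simp only [viaK, EtCore.pullCongr, eqToIso_refl, Iso.refl_hom, NatTrans.id_app, Category.id_comp]
  exact hc

/-- Transport between the two iterated inverse images along a commutative square. -/
def viaHom {P Q : Scheme.{u}} (r : P ⟶ T) (m : Q ⟶ P) (r' : Q ⟶ Y) (e : Y ⟶ T) (hw : m ≫ r = r' ≫ e)
    (G : EtCoh.Ab T) :
    (EtCoh.pull m).obj ((EtCoh.pull r).obj G) ⟶ (EtCoh.pull r').obj ((EtCoh.pull e).obj G) :=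
  @viaK T P Q r m (r' ≫ e) hw G ((EtCoh.pull r').obj ((EtCoh.pull e).obj G)) ((EtCore.pullComp r' e).hom.app G)

theorem compat_viaHom {P Q : Scheme.{u}} (r : P ⟶ T) (m : Q ⟶ P) (r' : Q ⟶ Y) (e : Y ⟶ T) (hw : m ≫ r = r' ≫ e)
    (G : EtCoh.Ab T) :
    Compat ((EtCoh.pullPushAdj r).unit.app G)
      ((EtCoh.pullPushAdj m).homEquiv _ _ (viaHom r m r' e hw G))
      ((EtCoh.pullPushAdj (r' ≫ e)).homEquiv _ _ ((EtCore.pullComp r' e).hom.app G)) :=
  @compat_aux T P Q r m (r' ≫ e) hw G ((EtCoh.pull r').obj ((EtCoh.pull e).obj G)) ((EtCore.pullComp r' e).hom.app G)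

theorem compat_unit_comp {Q : Scheme.{u}} (r' : Q ⟶ Y) (e : Y ⟶ T) (G : EtCoh.Ab T) :
    Compat ((EtCoh.pullPushAdj e).unit.app G)
      ((EtCoh.pullPushAdj r').unit.app ((EtCoh.pull e).obj G))
      ((EtCoh.pullPushAdj (r' ≫ e)).homEquiv _ _ ((EtCore.pullComp r' e).hom.app G)) := by
  have hc := compat_of_pullComp (t₁ := e) (t₂ := r') (t₃ := r' ≫ e) rfl
    (𝟙 ((EtCoh.pull e).obj G)) (𝟙 ((EtCoh.pull r').obj ((EtCoh.pull e).obj G)))
    ((EtCore.pullComp r' e).hom.app G) (by simp [EtCore.pullCongr])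
  rw [Adjunction.homEquiv_unit, Adjunction.homEquiv_unit, CategoryTheory.Functor.map_id,
    CategoryTheory.Functor.map_id] at hc
  erw [Category.comp_id, Category.comp_id] at hc
  exact hc

theorem res_square {P Q : Scheme.{u}} (r : P ⟶ T) (m : Q ⟶ P) (r' : Q ⟶ Y) (e : Y ⟶ T) (hw : m ≫ r = r' ≫ e)
    (G : EtCoh.Ab T) (V : T.Etale) (W : Y.Etale) (W₁ : P.Etale) (W₂ : Q.Etale) (c : W.left ⟶ V.left)
    (wc : c ≫ V.hom = W.hom ≫ e) (b : W₂.left ⟶ W.left) (wb : b ≫ W.hom = W₂.hom ≫ r')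
    (a : W₁.left ⟶ V.left) (wa : a ≫ V.hom = W₁.hom ≫ r) (d : W₂.left ⟶ W₁.left)
    (wd : d ≫ W₁.hom = W₂.hom ≫ m) (hd : d ≫ a = b ≫ c) (s : G.obj.obj (op V)) :
    res r' ((EtCoh.pullPushAdj r').unit.app ((EtCoh.pull e).obj G)) b wb
        (res e ((EtCoh.pullPushAdj e).unit.app G) c wc s) =
      res m ((EtCoh.pullPushAdj m).homEquiv _ _ (viaHom r m r' e hw G)) d wd
        (res r ((EtCoh.pullPushAdj r).unit.app G) a wa s) := by
  have we : (b ≫ c) ≫ V.hom = W₂.hom ≫ r' ≫ e := by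
    rw [Category.assoc, wc, ← Category.assoc, wb, Category.assoc]
  exact (compat_unit_comp r' e G V W W₂ c wc b wb (b ≫ c) we rfl s).trans
    (compat_viaHom r m r' e hw G V W₁ W₂ a wa d wd (b ≫ c) we hd s).symm

theorem phiHom_square {e : Y ⟶ T} {m : pullback hX h ⟶ pullback hS g} {G : EtCoh.Ab T} {G' : EtCoh.Ab Y}
    {le : G ⟶ (EtCoh.push e).obj G'}
    {L : (EtCoh.pull (pullback.snd hS g)).obj G ⟶
      (EtCoh.push m).obj ((EtCoh.pull (pullback.snd hX h)).obj G')}
    (H : ∀ (V : T.Etale) (W : Y.Etale) (W₁ : (pullback hS g).Etale) (W₂ : (pullback hX h).Etale)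
      (c : W.left ⟶ V.left) (wc : c ≫ V.hom = W.hom ≫ e) (b : W₂.left ⟶ W.left)
      (wb : b ≫ W.hom = W₂.hom ≫ pullback.snd hX h) (a : W₁.left ⟶ V.left)
      (wa : a ≫ V.hom = W₁.hom ≫ pullback.snd hS g) (d : W₂.left ⟶ W₁.left)
      (wd : d ≫ W₁.hom = W₂.hom ≫ m), d ≫ a = b ≫ c → ∀ s : G.obj.obj (op V),
      res (pullback.snd hX h) ((EtCoh.pullPushAdj (pullback.snd hX h)).unit.app G') b wb (res e le c wc s) =
        res m L d wd (res (pullback.snd hS g) ((EtCoh.pullPushAdj (pullback.snd hS g)).unit.app G) a wa s))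
    (V : S.Etale) (v : (Scheme.pointSmallEtale (EtFound.cpt RS ≫ hS)).fiber.obj V) (U : X.Etale)
    (t : (Scheme.pointSmallEtale (EtFound.cpt RX ≫ hX)).fiber.obj U)
    (c : ((EtCoh.bc h).obj U).left ⟶ ((EtCoh.bc g).obj V).left)
    (wc : c ≫ ((EtCoh.bc g).obj V).hom = ((EtCoh.bc h).obj U).hom ≫ e)
    (hd : m ≫ toBcLift hS V v g = toBcLift hX U t h ≫ c) (s : G.obj.obj (op ((EtCoh.bc g).obj V))) :
    phiHom hX h G' U t (res e le c wc s) =
      res m L (V := EtCoh.top (pullback hS g)) (W := EtCoh.top (pullback hX h)) m (top_w m)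
        (phiHom hS g G V v s) :=
  H _ _ (EtCoh.top (pullback hS g)) (EtCoh.top (pullback hX h)) c wc (toBcLift hX U t h) (toBcLift_w hX U t h)
    (toBcLift hS V v g) (toBcLift_w hS V v g) m (top_w m) hd s

variable (l : Spec (CommRingCat.of (IsLocalRing.ResidueField RX)) ⟶ Spec (CommRingCat.of (IsLocalRing.ResidueField RS)))
  (hl : l ≫ EtFound.cpt RS = EtFound.cpt RX ≫ ψ)

include hψ hl in
theorem lcomp : l ≫ (EtFound.cpt RS ≫ hS) = (EtFound.cpt RX ≫ hX) ≫ f := by
  rw [← Category.assoc, hl, Category.assoc, hψ, Category.assoc]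

set_option maxHeartbeats 600000 in
theorem stalk_baseChange0 (G : EtCoh.Ab T) (z : (EtCoh.stalk (EtFound.cpt RS ≫ hS)).obj ((EtCoh.push g).obj G)) :
    phiApp hX h ((EtCoh.pull e).obj G)
        ((EtCoh.stalk (EtFound.cpt RX ≫ hX)).map (EtCoh.baseChange0 g f h e w G)
          ((link f (EtFound.cpt RS ≫ hS) (EtFound.cpt RX ≫ hX) l (lcomp f ψ hψ l hl)).hom.app _ z)) =
      res (fibMap f g h e w ψ hψ)
        ((EtCoh.pullPushAdj (fibMap f g h e w ψ hψ)).homEquiv _ _ (viaHom (pullback.snd hS g) (fibMap f g h e w ψ hψ) (pullback.snd hX h) e (fibMap_snd f g h e w ψ hψ) G))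
        (V := EtCoh.top (pullback hS g)) (W := EtCoh.top (pullback hX h)) (fibMap f g h e w ψ hψ)
        (top_w _) (phiApp hS g G z) := by
  obtain ⟨V, v, s, rfl⟩ := (Scheme.pointSmallEtale (EtFound.cpt RS ≫ hS)).toPresheafFiber_jointly_surjective
    (P := ((EtCoh.push g).obj G).obj) z
  let η := EtFound.cpt RX ≫ hX
  let t : (Scheme.pointSmallEtale η).fiber.obj ((EtCoh.bc f).obj V) :=
    CategoryTheory.Over.homMk (pullback.lift (l ≫ (v.left : _ ⟶ V.left)) η
      ((Category.assoc _ _ _).trans ((congrArg (l ≫ ·) (CategoryTheory.Over.w v)).trans (lcomp f ψ hψ l hl))))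
      (pullback.lift_snd _ _ _)
  have ht : (t.left : Spec (CommRingCat.of (IsLocalRing.ResidueField RX)) ⟶ pullback V.hom f) ≫
      pullback.fst V.hom f = l ≫ (v.left : _ ⟶ V.left) := pullback.lift_fst _ _ _
  let U := (EtCoh.bc f).obj V
  let t₃ := pullback.snd hX h ≫ e
  let c : ((EtCoh.bc h).obj U).left ⟶ ((EtCoh.bc g).obj V).left :=
    pullback.lift (bcFst h U ≫ bcFst f V) (((EtCoh.bc h).obj U).hom ≫ e) (by
      rw [Category.assoc, bcFst_w, Category.assoc, w]
      exact (Category.assoc _ _ _).symm.trans ((congrArg (· ≫ f) (bcFst_w h U)).trans (Category.assoc _ _ _)))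
  have wc : c ≫ ((EtCoh.bc g).obj V).hom = ((EtCoh.bc h).obj U).hom ≫ e := pullback.lift_snd _ _ _
  have hc : c ≫ bcFst g V = bcFst h U ≫ bcFst f V := pullback.lift_fst _ _ _
  have hy : (EtCoh.baseChange0 g f h e w G).hom.app (op U)
      (((EtCoh.pullPushAdj f).unit.app ((EtCoh.push g).obj G)).hom.app (op V) s) =
      res e ((EtCoh.pullPushAdj e).unit.app G) c wc s := by
    refine Eq.trans ?_ (res_baseChange0 g f h e w G (bcFst f V) (bcFst_w f V) (bcFst h U) (bcFst_w h U) c wc hc s)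
    rw [res_id_bcFst, res_bcFst, Adjunction.homEquiv_unit]
    rfl
  refine (congrArg (fun r => phiApp hX h ((EtCoh.pull e).obj G) ((EtCoh.stalk η).map _ r))
    (link_germ f _ _ l _ _ V v t ht s)).trans ?_
  refine (congrArg (phiApp hX h ((EtCoh.pull e).obj G)) (ConcreteCategory.congr_hom
    ((Scheme.pointSmallEtale η).toPresheafFiber_naturality (EtCoh.baseChange0 g f h e w G).hom U t) _)).trans ?_
  refine (phiApp_germ hX h _ U t _).trans ?_
  refine (congrArg (phiHom hX h _ U t) hy).trans ?_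
  refine Eq.trans ?_ (congrArg _ (phiApp_germ hS g G V v s).symm)
  refine phiHom_square g h (fun V' W W₁ W₂ c' wc' b wb a wa d wd hd s' => @res_square Y T (pullback hS g)
    (pullback hX h) (pullback.snd hS g) (fibMap f g h e w ψ hψ) (pullback.snd hX h) e (fibMap_snd f g h e w ψ hψ)
    G V' W W₁ W₂ c' wc' b wb a wa d wd hd s')
    V v U t c wc ?_ s
  have hq : lift hX U t ≫ bcFst f V = ψ ≫ lift hS V v := by
    refine (existsUnique_lift (hX ≫ f) V (l ≫ (v.left : _ ⟶ V.left)) ?_).unique ⟨?_, ?_⟩ ⟨?_, ?_⟩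
    · rw [Category.assoc]
      exact (congrArg (l ≫ ·) (CategoryTheory.Over.w v)).trans ((lcomp f ψ hψ l hl).trans (Category.assoc _ _ _))
    · rw [Category.assoc, bcFst_w, ← Category.assoc, lift_w]
    · rw [← Category.assoc, cpt_lift]
      exact ht
    · rw [Category.assoc, lift_w, hψ]
    · rw [← Category.assoc, ← hl, Category.assoc, cpt_lift]
  refine pullback.hom_ext ?_ ?_
  · show (fibMap f g h e w ψ hψ ≫ toBcLift hS V v g) ≫ pullback.fst _ _ = (toBcLift hX U t h ≫ c) ≫ bcFst g V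
    rw [Category.assoc, toBcLift, pullback.lift_fst, ← Category.assoc, fibMap_fst, Category.assoc, Category.assoc, hc,
      toBcLift, pullback.lift_fst_assoc, Category.assoc, hq]
  · refine Eq.trans (Category.assoc _ _ _) (Eq.trans ?_ (Category.assoc _ _ _).symm)
    refine (congrArg (fibMap f g h e w ψ hψ ≫ ·) (pullback.lift_snd _ _ _)).trans ?_
    refine Eq.trans ?_ (congrArg (toBcLift hX U t h ≫ ·) wc).symm
    rw [fibMap_snd]
    exact (congrArg (· ≫ e) (pullback.lift_snd _ _ _).symm).trans (Category.assoc _ _ _)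

end Groth.Agent.BcQCalc
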