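import Groth.Agent.AlgSpDec.EtHenzField
import Groth.Prelude.Def_Hens2
import Mathlib.FieldTheory.IsSepClosed
import Mathlib.FieldTheory.IsAlgClosed.AlgebraicClosure

/-!
# Existence of compatible strict localizations
-/

set_option autoImplicit false
set_option linter.style.haveILetI false
set_option linter.unusedSectionVars false
set_option backward.isDefEq.respectTransparency false
set_option backward.isDefEq.respectTransparency.types false

universe u

open CategoryTheory AlgebraicGeometry IsLocalRing

noncomputable section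

namespace Groth.Agent.BcQCalc

open Groth.Agent.Hensel (Henz)

theorem exists_strictHens (O : Type u) [CommRing O] [IsLocalRing O] :
    ∃ (R : Type u) (_ : CommRing R) (_ : IsLocalRing R) (_ : Algebra O R) (_ : IsLocalHom (algebraMap O R)),
      _root_.Hensel.IsStrictHenselization O R := by
  let K := AlgebraicClosure (ResidueField O)
  letI : Algebra O K := ((algebraMap (ResidueField O) K).comp (residue O)).toAlgebra
  haveI : IsLocalHom (algebraMap O K) := ⟨fun a ha => by
    by_contra h
    have h0 : residue O a = 0 := (residue_eq_zero_iff a).2 h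
    have : algebraMap O K a = 0 := (congrArg (algebraMap (ResidueField O) K) h0).trans (map_zero _)
    exact ha.ne_zero this⟩
  haveI : IsLocalization (⊥ : Submonoid O) O := IsLocalization.self (fun x hx => by
    rw [Submonoid.mem_bot.1 hx]; exact isUnit_one)
  letI := (AlgSpDec.EtHenz.fromLocal O O K ⊥).toRingHom.toAlgebra
  obtain ⟨h1, h2⟩ := AlgSpDec.EtHenz.isStrictHenselization O O K ⊥
  exact ⟨Henz O K, inferInstance, inferInstance, _, h1, h2⟩

variable {O : Type u} [CommRing O] [IsLocalRing O] {R : Type u} [CommRing R] [IsLocalRing R] [Algebra O R]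
  [IsLocalHom (algebraMap O R)] [_root_.Hensel.IsStrictHenselization O R]

theorem isSepClosed_residueField_of_strict (O R : Type u) [CommRing O] [IsLocalRing O] [CommRing R] [IsLocalRing R]
    [Algebra O R] [IsLocalHom (algebraMap O R)] [_root_.Hensel.IsStrictHenselization O R] :
    IsSepClosed (ResidueField R) :=
  (_root_.Hensel.IsStrictHenselization.isSepClosure (R := O) (S := R)).sep_closed

/-- Maps on residue fields into separably closed fields extend. -/
theorem exists_residue_extension {L : Type u} [Field L] [IsSepClosed L] (σ : ResidueField O →+* L) :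
    ∃ τ : ResidueField R →+* L, τ.comp (ResidueField.map (algebraMap O R)) = σ := by
  letI : Algebra (ResidueField O) L := σ.toAlgebra
  haveI := _root_.Hensel.IsStrictHenselization.isSepClosure (R := O) (S := R)
  haveI : Algebra.IsSeparable (ResidueField O) (ResidueField R) := IsSepClosure.separable
  let τ : ResidueField R →ₐ[ResidueField O] L := IsSepClosed.lift
  refine ⟨τ.toRingHom, RingHom.ext fun c => ?_⟩
  exact τ.commutes c

theorem exists_strictMap {O' : Type u} [CommRing O'] [IsLocalRing O'] {R' : Type u} [CommRing R'] [IsLocalRing R']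
    [Algebra O' R'] [IsLocalHom (algebraMap O' R')] [_root_.Hensel.IsStrictHenselization O' R']
    (φ : O →+* O') [IsLocalHom φ] :
    ∃ ψ : R →+* R', IsLocalHom ψ ∧ ψ.comp (algebraMap O R) = (algebraMap O' R').comp φ := by
  haveI : HenselianLocalRing R' := _root_.Hensel.IsStrictHenselization.henselian (R := O')
  haveI : IsSepClosed (ResidueField R') := isSepClosed_residueField_of_strict O' R'
  let f : O →+* R' := (algebraMap O' R').comp φ
  haveI : IsLocalHom f := RingHom.isLocalHom_comp _ _
  obtain ⟨τ, hτ⟩ := exists_residue_extension (R := R) (ResidueField.map f)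
  obtain ⟨g, ⟨hg1, hg2⟩, -⟩ := _root_.Hensel.IsStrictHenselization.universal (R := O) (S := R) R' f τ hτ
  refine ⟨g, ⟨fun a ha => ?_⟩, hg1⟩
  by_contra h
  have h0 : residue R a = 0 := (residue_eq_zero_iff a).2 h
  have h1 : residue R' (g a) = 0 := by rw [hg2, h0, map_zero]
  exact (residue_eq_zero_iff (g a)).1 h1 ha

theorem exists_fac_of_local {X : Scheme.{u}} {Ω : Type u} [Field Ω] [IsSepClosed Ω]
    (can : Spec (CommRingCat.of O) ⟶ X) (s : O →+* Ω) [IsLocalHom s] :
    ∃ l : Spec (CommRingCat.of Ω) ⟶ Spec (CommRingCat.of (ResidueField R)),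
      l ≫ Spec.map (CommRingCat.ofHom (residue R)) ≫ Spec.map (CommRingCat.ofHom (algebraMap O R)) ≫ can =
        Spec.map (CommRingCat.ofHom s) ≫ can := by
  let σ : ResidueField O →+* Ω := ResidueField.lift s
  obtain ⟨τ, hτ⟩ := exists_residue_extension (R := R) σ
  have e : CommRingCat.ofHom (algebraMap O R) ≫ CommRingCat.ofHom (residue R) ≫ CommRingCat.ofHom τ =
      CommRingCat.ofHom s := by
    refine CommRingCat.hom_ext (RingHom.ext fun a => ?_)
    have h1 := RingHom.congr_fun hτ (residue O a)
    rw [RingHom.comp_apply, ResidueField.map_residue] at h1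
    exact h1.trans (ResidueField.lift_residue_apply s a)
  refine ⟨Spec.map (CommRingCat.ofHom τ), ?_⟩
  rw [← e, Spec.map_comp, Spec.map_comp, Category.assoc, Category.assoc]

/-- Geometric points factor through the closed point of a strict localization. -/
theorem exists_fac_geomPt {X : Scheme.{u}} {Ω : Type u} [Field Ω] [IsSepClosed Ω]
    (ξ : Spec (CommRingCat.of Ω) ⟶ X)
    (RX : Type u) [CommRing RX] [IsLocalRing RX] [Algebra (X.presheaf.stalk (ξ (closedPoint Ω))) RX]
    [IsLocalHom (algebraMap (X.presheaf.stalk (ξ (closedPoint Ω))) RX)]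
    [_root_.Hensel.IsStrictHenselization (X.presheaf.stalk (ξ (closedPoint Ω))) RX] :
    ∃ l : Spec (CommRingCat.of Ω) ⟶ Spec (CommRingCat.of (ResidueField RX)),
      l ≫ Hens2.geomPt X (ξ (closedPoint Ω)) RX = ξ := by
  haveI : IsLocalHom (Scheme.stalkClosedPointTo ξ).hom := inferInstance
  obtain ⟨l, hl⟩ := exists_fac_of_local (O := ↑(X.presheaf.stalk (ξ (closedPoint Ω)))) (R := RX) (X.fromSpecStalk (ξ (closedPoint Ω)))
    (Scheme.stalkClosedPointTo ξ).hom
  exact ⟨l, hl.trans (Scheme.Spec_stalkClosedPointTo_fromSpecStalk ξ)⟩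

end Groth.Agent.BcQCalc
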