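import Groth.Agent.BcQCalc.Tower
import Groth.Agent.LocCohLib.Edge

/-!
# Right derived functors through the tower of an injective resolution
-/

set_option autoImplicit false
set_option linter.unusedSectionVars false
set_option linter.style.haveILetI false
set_option backward.isDefEq.respectTransparency false
set_option backward.isDefEq.respectTransparency.types false

universe v₁ v₂ v₃ u₁ u₂ u₃

open CategoryTheory CategoryTheory.Limits HomologicalComplex

noncomputable section

namespace Groth.Agent.BcQCalc

open LocCohLib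

variable {A : Type u₁} [Category.{v₁} A] [Abelian A]

/-- The tower of a cochain complex. -/
@[simps]
def towerOf (K : CochainComplex A ℕ) : Tower A where
  Z j := K.cycles j
  X j := K.X j
  i j := K.iCycles j
  p j := K.toCycles j (j + 1)
  w j := by rw [← cancel_mono (K.iCycles (j + 1)), Category.assoc, toCycles_i, iCycles_d, zero_comp]

/-- A morphism of complexes gives a morphism of towers. -/
@[simps]
def towerHom {K L : CochainComplex A ℕ} (φ : K ⟶ L) : Tower.Hom (towerOf K) (towerOf L) where
  z j := cyclesMap φ j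
  x j := φ.f j
  comm_i j := (cyclesMap_i φ j).symm
  comm_p j := (cancel_mono (L.iCycles (j + 1))).1 (by simp)

instance mono_towerOf_i (K : CochainComplex A ℕ) (j : ℕ) : Mono ((towerOf K).i j) := inferInstanceAs (Mono (K.iCycles j))

theorem towerOf_isExact {Y : A} (K : CochainComplex A ℕ) (ι : (CochainComplex.single₀ A).obj Y ⟶ K) [QuasiIso ι] :
    (towerOf K).IsExact := fun j => by
  have hex : (ShortComplex.mk (K.iCycles j) (K.toCycles j (j + 1)) ((towerOf K).w j)).Exact := by
    refine ShortComplex.exact_of_f_is_kernel _ (KernelFork.IsLimit.ofι _ _ (fun g hg => K.liftCycles g (j + 1)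
      (by simp) ?_) (fun g hg => by simp) (fun g hg m hm => ?_))
    · have h := congrArg (· ≫ K.iCycles (j + 1)) hg
      simpa using h
    · rw [← cancel_mono (K.iCycles j), hm, liftCycles_i]
  have hepi : Epi (K.toCycles j (j + 1)) := by
    have h : IsZero (K.homology (j + 1)) :=
      (HomologicalComplex.exactAt_iff_isZero_homology _ _).1 (RDer.res_exactAt_succ K ι j)
    exact Preadditive.epi_of_isZero_cokernel' _ (K.homologyIsCokernel j (j + 1) (by simp)) h
  exact { exact := hex, mono_f := inferInstanceAs (Mono (K.iCycles j)), epi_g := hepi }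

variable [HasInjectiveResolutions A]

/-- The tower of the chosen injective resolution. -/
def tw (F : A) : Tower A := towerOf (injectiveResolution F).cocomplex

instance injective_tw_X (F : A) (j : ℕ) : Injective ((tw F).X j) := (injectiveResolution F).injective j

instance mono_tw_i (F : A) (j : ℕ) : Mono ((tw F).i j) := mono_towerOf_i _ j

theorem tw_isExact (F : A) : (tw F).IsExact := towerOf_isExact _ (injectiveResolution F).ι

/-- The augmentation. -/
def aug (F : A) : F ⟶ (tw F).Z 0 :=
  (injectiveResolution F).cocomplex.liftCycles ((injectiveResolution F).ι.f 0) 1 (by simp)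
    (RDer.res_ι_d _ (injectiveResolution F).ι)

@[reassoc]
theorem aug_i (F : A) : aug F ≫ (tw F).i 0 = (injectiveResolution F).ι.f 0 := liftCycles_i _ _ _ _ _

instance isIso_aug (F : A) : IsIso (aug F) := by
  let I := injectiveResolution F
  have e : aug F = ((RDer.resIsLimitKernelFork I.cocomplex I.ι).conePointUniqueUpToIso
      (I.cocomplex.cyclesIsKernel 0 1 (by simp))).hom :=
    (cancel_mono ((tw F).i 0)).1 ((aug_i F).trans (IsLimit.conePointUniqueUpToIso_hom_comp
      (RDer.resIsLimitKernelFork I.cocomplex I.ι) (I.cocomplex.cyclesIsKernel 0 1 (by simp))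
      WalkingParallelPair.zero).symm)
  rw [e]
  infer_instance

variable {B : Type u₂} [Category.{v₂} B] [Abelian B] (Φ : A ⥤ B) [Φ.Additive] [PreservesFiniteLimits Φ]

/-- The class of a cycle in a right derived functor. -/
def pic (F : A) (q : ℕ) : Φ.obj ((tw F).Z q) ⟶ (Φ.rightDerived q).obj F :=
  inv (RDer.cyclesComparison Φ (injectiveResolution F).cocomplex q) ≫
    ((Φ.mapHomologicalComplex _).obj (injectiveResolution F).cocomplex).homologyπ q ≫
      ((injectiveResolution F).isoRightDerivedObj Φ q).inv

@[reassoc]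
theorem cyclesComparison_pic (F : A) (q : ℕ) :
    RDer.cyclesComparison Φ (injectiveResolution F).cocomplex q ≫ pic Φ F q =
      ((Φ.mapHomologicalComplex _).obj (injectiveResolution F).cocomplex).homologyπ q ≫
        ((injectiveResolution F).isoRightDerivedObj Φ q).inv :=
  IsIso.hom_inv_id_assoc _ _

instance epi_pic (F : A) (q : ℕ) : Epi (pic Φ F q) := by
  unfold pic
  infer_instance

@[reassoc]
theorem toCycles_cyclesComparison_nat (F : A) (j : ℕ) :
    ((Φ.mapHomologicalComplex _).obj (injectiveResolution F).cocomplex).toCycles j (j + 1) ≫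
      RDer.cyclesComparison Φ (injectiveResolution F).cocomplex (j + 1) = Φ.map ((tw F).p j) := by
  apply Fork.IsLimit.hom_ext (KernelFork.mapIsLimit _
    ((injectiveResolution F).cocomplex.cyclesIsKernel (j + 1) ((ComplexShape.up ℕ).next (j + 1)) rfl) Φ)
  rw [KernelFork.map_ι, Fork.ι_ofι, Category.assoc, RDer.cyclesComparison_i, toCycles_i, ← Φ.map_comp]
  exact congrArg Φ.map (toCycles_i _ _ _).symm

@[reassoc]
theorem map_p_pic (F : A) (j : ℕ) : Φ.map ((tw F).p j) ≫ pic Φ F (j + 1) = 0 := by
  rw [← toCycles_cyclesComparison_nat, Category.assoc, cyclesComparison_pic, toCycles_comp_homologyπ_assoc,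
    zero_comp]

/-- The derived functor is the cokernel of boundaries to cycles. -/
def picIsCokernel (F : A) (j : ℕ) :
    IsColimit (CokernelCofork.ofπ (pic Φ F (j + 1)) (map_p_pic Φ F j)) :=
  IsColimit.ofIsoColimit
    (CokernelCofork.isColimitOfIsColimitOfIff (f := ((Φ.mapHomologicalComplex _).obj
        (injectiveResolution F).cocomplex).toCycles j (j + 1))
      ((((Φ.mapHomologicalComplex _).obj (injectiveResolution F).cocomplex)).homologyIsCokernel j (j + 1) (by simp))
      (Φ.map ((tw F).p j)) (asIso (RDer.cyclesComparison Φ (injectiveResolution F).cocomplex (j + 1))).symm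
      (fun W φ => by
        refine Iff.of_eq (congrArg (· = 0) ?_)
        rw [← toCycles_cyclesComparison_nat, Iso.symm_hom, asIso_inv, Category.assoc, IsIso.hom_inv_id_assoc]))
    (Cofork.ext ((injectiveResolution F).isoRightDerivedObj Φ (j + 1)).symm (by
      exact Category.assoc _ _ _))

theorem isIso_pic_zero (F : A) : IsIso (pic Φ F 0) := by
  have h : IsIso (((Φ.mapHomologicalComplex _).obj (injectiveResolution F).cocomplex).homologyπ 0) :=
    (CochainComplex.isoHomologyπ₀ ((Φ.mapHomologicalComplex _).obj (injectiveResolution F).cocomplex)).isIso_hom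
  unfold pic
  infer_instance

@[reassoc]
theorem cyclesMap_cyclesComparison {K L : CochainComplex A ℕ} (φ : K ⟶ L) (q : ℕ) :
    cyclesMap ((Φ.mapHomologicalComplex _).map φ) q ≫ RDer.cyclesComparison Φ L q =
      RDer.cyclesComparison Φ K q ≫ Φ.map (cyclesMap φ q) := by
  haveI : Mono (Φ.map (L.iCycles q)) := inferInstance
  rw [← cancel_mono (Φ.map (L.iCycles q))]
  simp only [Category.assoc, RDer.cyclesComparison_i, cyclesMap_i, ← Φ.map_comp]
  rw [Φ.map_comp, RDer.cyclesComparison_i_assoc]
  rfl

/-- Morphisms between towers of resolutions are determined by their bottom component, after `pic`. -/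
theorem pic_z_eq {T : Tower A} (hT : T.IsExact) (G : A) (φ ψ : Tower.Hom T (tw G)) (h : φ.z 0 = ψ.z 0) (q : ℕ) :
    Φ.map (φ.z q) ≫ pic Φ G q = Φ.map (ψ.z q) ≫ pic Φ G q :=
  Tower.Hom.map_z_comp_eq hT φ ψ h Φ q _ fun j e => by
    subst e
    simpa using map_p_pic Φ G j

/-- Functoriality in the object. -/
@[reassoc]
theorem pic_rightDerived_map {F G : A} (v : F ⟶ G) (φ : Tower.Hom (tw F) (tw G))
    (h : aug F ≫ φ.z 0 = v ≫ aug G) (q : ℕ) :
    pic Φ F q ≫ (Φ.rightDerived q).map v = Φ.map (φ.z q) ≫ pic Φ G q := by
  let I := injectiveResolution F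
  let J := injectiveResolution G
  let d := InjectiveResolution.desc v J I
  have h0 : φ.z 0 = (towerHom d).z 0 := by
    rw [← cancel_epi (aug F), h, ← cancel_mono ((tw G).i 0)]
    simp only [Category.assoc, aug_i, towerHom_z]
    refine Eq.trans ?_ (congrArg (aug F ≫ ·) (cyclesMap_i d 0).symm)
    refine Eq.trans ?_ (aug_i_assoc F _).symm
    exact (InjectiveResolution.desc_commutes_zero v J I).symm
  rw [pic_z_eq Φ (tw_isExact F) G φ (towerHom d) h0 q]
  haveI : Epi (RDer.cyclesComparison Φ I.cocomplex q) := inferInstance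
  rw [← cancel_epi (RDer.cyclesComparison Φ I.cocomplex q), cyclesComparison_pic_assoc,
    InjectiveResolution.isoRightDerivedObj_inv_naturality v I J d (InjectiveResolution.desc_commutes_zero _ _ _) Φ q]
  erw [← cyclesMap_cyclesComparison_assoc Φ d q, cyclesComparison_pic]
  rw [Functor.comp_map, homologyFunctor_map, homologyπ_naturality_assoc]

/-- Functoriality in the functor. -/
@[reassoc]
theorem pic_rightDerivedIso {Φ' : A ⥤ B} [Φ'.Additive] [PreservesFiniteLimits Φ'] (e : Φ ≅ Φ') (F : A) (q : ℕ) :
    pic Φ F q ≫ (RDer.rightDerivedIso e q).hom.app F = e.hom.app ((tw F).Z q) ≫ pic Φ' F q := by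
  let I := injectiveResolution F
  show pic Φ F q ≫ (NatTrans.rightDerived e.hom q).app F = _
  rw [InjectiveResolution.rightDerived_app_eq e.hom I q, ← cancel_epi (RDer.cyclesComparison Φ I.cocomplex q),
    cyclesComparison_pic_assoc, Iso.inv_hom_id_assoc, homologyFunctor_map, homologyπ_naturality_assoc]
  have : cyclesMap ((NatTrans.mapHomologicalComplex e.hom _).app I.cocomplex) q ≫
      RDer.cyclesComparison Φ' I.cocomplex q =
      RDer.cyclesComparison Φ I.cocomplex q ≫ e.hom.app ((tw F).Z q) := by
    rw [← cancel_mono (Φ'.map (I.cocomplex.iCycles q))]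
    simp only [Category.assoc, RDer.cyclesComparison_i, cyclesMap_i, NatTrans.mapHomologicalComplex_app_f]
    rw [show e.hom.app ((tw F).Z q) ≫ Φ'.map (I.cocomplex.iCycles q) =
      Φ.map (I.cocomplex.iCycles q) ≫ e.hom.app (I.cocomplex.X q) from (e.hom.naturality _).symm,
      RDer.cyclesComparison_i_assoc]
  rw [← reassoc_of% this, cyclesComparison_pic]

end Groth.Agent.BcQCalc
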