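import Groth.Agent.BcQCalc.Main
import Groth.Agent.BcQCalc.Bc0

/-!
# Vertical composition of base change morphisms
-/

set_option autoImplicit false
set_option linter.unusedSectionVars false
set_option linter.style.haveILetI false
set_option backward.isDefEq.respectTransparency false
set_option backward.isDefEq.respectTransparency.types false

universe u

open CategoryTheory CategoryTheory.Limits AlgebraicGeometry

noncomputable section

namespace Groth.Agent.BcQCalc

variable {X S X' S' : Scheme.{u}} (f : X ⟶ S) (g : S' ⟶ S) (f' : X' ⟶ S') (g' : X' ⟶ X)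
  (w : g' ≫ f = f' ≫ g)

/-- The base change map in degree zero is natural. -/
@[reassoc]
theorem baseChange0_naturality {F G : EtCoh.Ab X} (v : F ⟶ G) :
    (EtCoh.pull g).map ((EtCoh.push f).map v) ≫ EtCoh.baseChange0 f g f' g' w G =
      EtCoh.baseChange0 f g f' g' w F ≫ (EtCoh.push f').map ((EtCoh.pull g').map v) := by
  let e := EtCoh.pushComp f g' ≪≫ EtCoh.pushCongr w ≪≫ (EtCoh.pushComp g f').symm
  apply ((EtCoh.pullPushAdj g).homEquiv _ _).injective
  rw [Adjunction.homEquiv_naturality_left, Adjunction.homEquiv_naturality_right, EtCoh.baseChange0,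
    EtCoh.baseChange0, Equiv.apply_symm_apply, Equiv.apply_symm_apply]
  show (EtCoh.push f).map v ≫ (EtCoh.push f).map _ ≫ e.hom.app _ =
    ((EtCoh.push f).map _ ≫ e.hom.app _) ≫ (EtCoh.push f' ⋙ EtCoh.push g).map ((EtCoh.pull g').map v)
  rw [Category.assoc, ← e.hom.naturality, Functor.comp_map, ← Functor.map_comp_assoc, ← Functor.map_comp_assoc]
  exact congrArg (fun r => (EtCoh.push f).map r ≫ _) ((EtCoh.pullPushAdj g').unit.naturality v)

/-- A comparison of towers for the inverse image. -/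
theorem exists_pullHom [PreservesFiniteLimits (EtCoh.pull g')] (F : EtCoh.Ab X) :
    ∃ φ : Tower.Hom ((tw F).map (EtCoh.pull g')) (tw ((EtCoh.pull g').obj F)),
      (EtCoh.pull g').map (aug F) ≫ φ.z 0 = aug ((EtCoh.pull g').obj F) := by
  haveI : IsIso ((EtCoh.pull g').map (aug F)) := inferInstance
  obtain ⟨φ, hφ⟩ := Tower.Hom.exists_of (T' := tw ((EtCoh.pull g').obj F))
    ((tw_isExact F).map (EtCoh.pull g')) (inv ((EtCoh.pull g').map (aug F)) ≫ aug ((EtCoh.pull g').obj F))
  exact ⟨φ, by rw [hφ, IsIso.hom_inv_id_assoc]⟩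

variable {S'' X'' : Scheme.{u}} (i : S'' ⟶ S') (f'' : X'' ⟶ S'') (k : X'' ⟶ X') (w' : k ≫ f' = f'' ≫ i)
  (w'' : (k ≫ g') ≫ f = f'' ≫ (i ≫ g))

/-- Vertical composition of base change morphisms. -/
theorem bcQ_vcomp [PreservesFiniteLimits (EtCoh.pull g')] [PreservesFiniteLimits (EtCoh.pull k)]
    [PreservesFiniteLimits (EtCoh.pull (k ≫ g'))] (F : EtCoh.Ab X) (q : ℕ) :
    EtBC.bcQ f (i ≫ g) f'' (k ≫ g') w'' q F =
      (EtCore.pullComp i g).hom.app ((EtCoh.Rpush f q).obj F) ≫
        (EtCoh.pull i).map (EtBC.bcQ f g f' g' w q F) ≫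
        EtBC.bcQ f' i f'' k w' q ((EtCoh.pull g').obj F) ≫
        (EtCoh.Rpush f'' q).map ((EtCore.pullComp k g').inv.app F) := by
  let G := (EtCoh.pull g').obj F
  let c := (EtCore.pullComp k g').inv.app F
  obtain ⟨φ, hφ⟩ := exists_pullHom g' F
  obtain ⟨φ', hφ'⟩ := exists_pullHom k G
  obtain ⟨μ, hμ⟩ := Tower.Hom.exists_of (T' := tw ((EtCoh.pull (k ≫ g')).obj F))
    (tw_isExact ((EtCoh.pull k).obj G)) (inv (aug ((EtCoh.pull k).obj G)) ≫ c ≫ aug _)
  have hμ' : aug ((EtCoh.pull k).obj G) ≫ μ.z 0 = c ≫ aug _ := by rw [hμ, IsIso.hom_inv_id_assoc]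
  let χ : Tower.Hom ((tw F).map (EtCoh.pull (k ≫ g'))) (tw ((EtCoh.pull (k ≫ g')).obj F)) :=
    { z := fun j => (EtCore.pullComp k g').hom.app _ ≫ (EtCoh.pull k).map (φ.z j) ≫ φ'.z j ≫ μ.z j
      x := fun j => (EtCore.pullComp k g').hom.app _ ≫ (EtCoh.pull k).map (φ.x j) ≫ φ'.x j ≫ μ.x j
      comm_i := fun j => by
        show (EtCoh.pull (k ≫ g')).map ((tw F).i j) ≫ _ = _
        rw [(EtCore.pullComp k g').hom.naturality_assoc, Functor.comp_map, ← Functor.map_comp_assoc]
        erw [φ.comm_i]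
        rw [Functor.map_comp, Category.assoc]
        erw [reassoc_of% (φ'.comm_i j)]
        erw [μ.comm_i]
        simp only [Category.assoc]
      comm_p := fun j => by
        show (EtCoh.pull (k ≫ g')).map ((tw F).p j) ≫ _ = _
        rw [(EtCore.pullComp k g').hom.naturality_assoc, Functor.comp_map, ← Functor.map_comp_assoc]
        erw [φ.comm_p]
        rw [Functor.map_comp, Category.assoc]
        erw [reassoc_of% (φ'.comm_p j)]
        erw [μ.comm_p]
        simp only [Category.assoc] }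
  have hχ : (EtCoh.pull (k ≫ g')).map (aug F) ≫ χ.z 0 = aug ((EtCoh.pull (k ≫ g')).obj F) := by
    show (EtCoh.pull (k ≫ g')).map (aug F) ≫ _ ≫ _ = _
    rw [(EtCore.pullComp k g').hom.naturality_assoc, Functor.comp_map, ← Functor.map_comp_assoc]
    erw [hφ, reassoc_of% hφ', hμ']
    exact Iso.hom_inv_id_app_assoc (EtCore.pullComp k g') F _
  rw [← cancel_epi ((EtCoh.pull (i ≫ g)).map (pic (EtCoh.push f) F q))]
  refine (bcQ_pic f (i ≫ g) f'' (k ≫ g') w'' F χ hχ q).trans ?_
  refine Eq.trans ?_ ((EtCore.pullComp i g).hom.naturality_assoc _ _).symm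
  rw [Functor.comp_map, ← Functor.map_comp_assoc, bcQ_pic f g f' g' w F φ hφ q]
  simp only [Functor.map_comp, Category.assoc]
  rw [reassoc_of% (bcQ_pic f' i f'' k w' G φ' hφ' q)]
  rw [baseChange0_naturality_assoc f' i f'' k w' (φ.z q)]
  erw [pic_rightDerived_map (EtCoh.push f'') c μ hμ' q]
  rw [baseChange0_vcomp f g f' g' w ((tw F).Z q) i f'' k w' w'']
  simp only [Category.assoc]
  refine congrArg (fun r => _ ≫ _ ≫ _ ≫ r) ?_
  show _ ≫ (EtCoh.push f'').map ((EtCore.pullComp k g').hom.app _ ≫ _ ≫ _ ≫ _) ≫ _ = _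
  simp only [Functor.map_comp, Category.assoc]
  rw [← Functor.map_comp_assoc, Iso.inv_hom_id_app]
  erw [CategoryTheory.Functor.map_id, Category.id_comp]

end Groth.Agent.BcQCalc
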