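import Groth.Agent.BcQCalc.CycleClass
import Groth.Agent.BcQCalc.Pi
import Groth.Agent.BcQCalc.VComp
import Groth.Agent.RpushStalk.Main
import Groth.Agent.EtLim8.HMaps

/-!
# Stalks of higher direct images and cohomology of the strict localization, on classes of cycles
-/

set_option autoImplicit false
set_option linter.unusedSectionVars false
set_option linter.unusedVariables false
set_option linter.style.haveILetI false
set_option backward.isDefEq.respectTransparency false
set_option backward.isDefEq.respectTransparency.types false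

universe u

open CategoryTheory CategoryTheory.Limits AlgebraicGeometry Opposite Abelian

noncomputable section

namespace Groth.Agent.BcQCalc

open RpushStalk

attribute [local instance] EtFound.pull_preservesFiniteLimits

/-- A surjection with the same kernel as another gives a bijection. -/
theorem exists_bijective_comp_eq {A B C : Type*} [AddCommGroup A] [AddCommGroup B] [AddCommGroup C]
    (π : A →+ B) (σ : A →+ C) (hπ : Function.Surjective π) (hσ : Function.Surjective σ)
    (hker : ∀ a, π a = 0 ↔ σ a = 0) : ∃ χ : B → C, Function.Bijective χ ∧ ∀ a, χ (π a) = σ a := by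
  have key : ∀ a a', π a = π a' ↔ σ a = σ a' := fun a a' => by
    rw [← sub_eq_zero, ← map_sub, hker, map_sub, sub_eq_zero]
  choose sec hsec using hπ
  refine ⟨fun b => σ (sec b), ⟨fun b b' h => ?_, fun c => ?_⟩, fun a => (key _ _).1 (hsec _)⟩
  · exact (hsec b).symm.trans (((key _ _).2 h).trans (hsec b'))
  · obtain ⟨a, rfl⟩ := hσ c
    exact ⟨π a, (key _ _).1 (hsec _)⟩

/-- Sections as classes of degree zero. -/
def gm {P : Scheme.{u}} (M : EtCoh.Ab P) : M.obj.obj (op (EtCoh.top P)) ≃+ EtCoh.H P M 0 :=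
  (Sheaf.H.equiv₀ M (EtCore.topIsTerminal P)).symm

theorem gm_naturality {P : Scheme.{u}} {M N : EtCoh.Ab P} (η : M ⟶ N) (s : M.obj.obj (op (EtCoh.top P))) :
    (gm M s).comp (Ext.mk₀ η) (add_zero 0) = gm N (η.hom.app (op (EtCoh.top P)) s) :=
  Sheaf.H.equiv₀_symm_naturality (EtCore.topIsTerminal P) η s

theorem HpullThen_gm {P Q : Scheme.{u}} (m : Q ⟶ P) {M : EtCoh.Ab P} {N : EtCoh.Ab Q}
    (α : (EtCoh.pull m).obj M ⟶ N) (s : M.obj.obj (op (EtCoh.top P))) :
    EtLim.HpullThen m M α 0 (gm M s) = gm N (EtLim8.res m ((EtCoh.pullPushAdj m).homEquiv _ _ α)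
      (V := EtCoh.top P) (W := EtCoh.top Q) m (EtLim8.top_w m) s) := by
  apply (Sheaf.H.equiv₀ N (EtCore.topIsTerminal Q)).injective
  refine (EtLim8.equiv₀_HpullThen m M α (gm M s)).trans ?_
  refine Eq.trans ?_ ((Sheaf.H.equiv₀ N (EtCore.topIsTerminal Q)).apply_symm_apply _).symm
  exact congrArg _ ((Sheaf.H.equiv₀ M (EtCore.topIsTerminal P)).apply_symm_apply s)

variable {S T : Scheme.{u}} {R : Type u} [CommRing R] [HenselianLocalRing R]
  [IsSepClosed (IsLocalRing.ResidueField R)] (h : Spec (CommRingCat.of R) ⟶ S) (g : T ⟶ S) (F : EtCoh.Ab T)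

/-- The tower restricted to the strict localization. -/
abbrev twPull : Tower (EtCoh.Ab (pullback h g)) := (tw F).map (EtCoh.pull (pullback.snd h g))

theorem twPull_isExact : (twPull h g F).IsExact := (tw_isExact F).map _

/-- A germ of cycles as a class on the strict localization. -/
def sigma (q : ℕ) : ((EtCoh.stalk (EtFound.cpt R ≫ h)).obj ((EtCoh.push g).obj ((tw F).Z q))) →+
    EtCoh.H (pullback h g) ((twPull h g F).Z 0) q :=
  ((clHom q (twPull h g F) (twPull_isExact h g F)).comp
    (gm ((twPull h g F).Z q)).toAddMonoidHom).comp (phiApp h g ((tw F).Z q)).hom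

theorem sigma_apply (q : ℕ) (z) : sigma h g F q z =
    cl q (twPull h g F) (twPull_isExact h g F) (gm _ (phiApp h g ((tw F).Z q) z)) := rfl

/-- A germ of cycles as a germ of the higher direct image. -/
def piStalk (q : ℕ) : ((EtCoh.stalk (EtFound.cpt R ≫ h)).obj ((EtCoh.push g).obj ((tw F).Z q))) →+
    ((EtCoh.stalk (EtFound.cpt R ≫ h)).obj ((EtCoh.Rpush g q).obj F)) :=
  ((EtCoh.stalk (EtFound.cpt R ≫ h)).map (pic (EtCoh.push g) F q)).hom

theorem piStalk_surjective (q : ℕ) : Function.Surjective (piStalk h g F q) :=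
  (AddCommGrpCat.epi_iff_surjective _).1
    (inferInstance : Epi ((EtCoh.stalk (EtFound.cpt R ≫ h)).map (pic (EtCoh.push g) F q)))

theorem piStalk_eq_zero_iff (q : ℕ) (z) : piStalk h g F (q + 1) z = 0 ↔
    ∃ y, (EtCoh.stalk (EtFound.cpt R ≫ h)).map ((EtCoh.push g).map ((tw F).p q)) y = z := by
  let S' : ShortComplex (EtCoh.Ab S) := ShortComplex.mk ((EtCoh.push g).map ((tw F).p q))
    (pic (EtCoh.push g) F (q + 1)) (map_p_pic _ F q)
  have hex : S'.Exact := ShortComplex.exact_of_g_is_cokernel S' (picIsCokernel (EtCoh.push g) F q)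
  have h1 := (ShortComplex.ab_exact_iff _).1 (hex.map (EtCoh.stalk (EtFound.cpt R ≫ h)))
  refine ⟨fun hz => h1 z hz, ?_⟩
  rintro ⟨y, rfl⟩
  exact congrArg (fun r => r.hom y) (S'.map (EtCoh.stalk (EtFound.cpt R ≫ h))).zero

variable (D : Model S R h) [QuasiCompact g] [QuasiSeparated g]

include D in
theorem bijective_phiApp (G : EtCoh.Ab T) : Function.Bijective (phiApp h g G) := by
  obtain ⟨B, Ω, ι, e', fac⟩ := D
  subst fac
  exact (ConcreteCategory.isIso_iff_bijective _).1 (isIso_phiApp ⟨B, Ω, ι, e', rfl⟩ g G)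

include D in
theorem acyclic_twPull : Acyclic (twPull h g F) := by
  obtain ⟨B, Ω, ι, e', fac⟩ := D
  subst fac
  exact fun j i => subsingleton_H_pull_injective ⟨B, Ω, ι, e', rfl⟩ g ((tw F).X j) i

include D in
theorem sigma_surjective (q : ℕ) : Function.Surjective (sigma h g F q) := by
  intro y
  obtain ⟨x, rfl⟩ := surjective_cl q (twPull h g F) (twPull_isExact h g F) (acyclic_twPull h g F D) y
  obtain ⟨z, hz⟩ := (bijective_phiApp h g D ((tw F).Z q)).2 ((gm _).symm x)
  exact ⟨z, (congrArg (fun r => cl q (twPull h g F) (twPull_isExact h g F) (gm _ r)) hz).trans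
    (congrArg (cl q (twPull h g F) (twPull_isExact h g F)) ((gm _).apply_symm_apply x))⟩

include D in
theorem ker_piStalk_eq (q : ℕ) (z) : piStalk h g F q z = 0 ↔ sigma h g F q z = 0 := by
  cases q with
  | zero =>
    haveI := isIso_pic_zero (EtCoh.push g) F
    have h1 : Function.Injective (piStalk h g F 0) :=
      ((ConcreteCategory.isIso_iff_bijective _).1
        (inferInstance : IsIso ((EtCoh.stalk (EtFound.cpt R ≫ h)).map (pic (EtCoh.push g) F 0)))).1
    have h2 : Function.Injective (sigma h g F 0) :=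
      ((gm _).injective.comp (bijective_phiApp h g D ((tw F).Z 0)).1)
    exact ⟨fun hz => by rw [h1 (hz.trans (map_zero _).symm), map_zero],
      fun hz => by rw [h2 (hz.trans (map_zero _).symm), map_zero]⟩
  | succ q =>
    rw [piStalk_eq_zero_iff, sigma_apply, cl_eq_zero_iff q _ _ (acyclic_twPull h g F D)]
    constructor
    · rintro ⟨y, rfl⟩
      refine ⟨gm _ (phiApp h g ((tw F).X q) y), ?_⟩
      refine (gm_naturality ((twPull h g F).p q) _).trans (congrArg (gm _) ?_)
      exact (ConcreteCategory.congr_hom (phiApp_naturality h g ((tw F).p q)) y).symm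
    · rintro ⟨w, hw⟩
      obtain ⟨y, hy⟩ := (bijective_phiApp h g D ((tw F).X q)).2 ((gm _).symm w)
      refine ⟨y, (bijective_phiApp h g D ((tw F).Z (q + 1))).1 ?_⟩
      refine (ConcreteCategory.congr_hom (phiApp_naturality h g ((tw F).p q)) y).trans ?_
      apply (gm ((twPull h g F).Z (q + 1))).injective
      refine (gm_naturality ((twPull h g F).p q) _).symm.trans ?_
      refine Eq.trans ?_ hw
      exact congrArg (fun r => Ext.comp r (Ext.mk₀ ((twPull h g F).p q)) (add_zero 0))
        ((congrArg (gm _) hy).trans ((gm _).apply_symm_apply w))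

end Groth.Agent.BcQCalc
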