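import Groth.Agent.BcQCalc.VComp
import Groth.Agent.H0FBC.EtaleLocal
import Groth.Agent.EtAcycLib.Compose
import Groth.Agent.EtLC12.AffineLocalAcyclic
import Groth.Agent.EtFound.JContGen
import Groth.Agent.EtFound.Stalk

/-!
# Base change along an étale morphism, in each degree
-/

set_option autoImplicit false
set_option linter.unusedSectionVars false
set_option linter.style.haveILetI false
set_option backward.isDefEq.respectTransparency false
set_option backward.isDefEq.respectTransparency.types false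

universe u

open CategoryTheory CategoryTheory.Limits AlgebraicGeometry Opposite

attribute [-instance] CategoryTheory.catToReflQuiver

noncomputable section

namespace Groth.Agent.BcQCalc

/-- The direct image along the identity. -/
def pushAbId (X : Scheme.{u}) : EtCoh.push (𝟙 X) ≅ 𝟭 (EtCoh.Ab X) :=
  Functor.sheafPushforwardContinuousId' (EtDescSplit.bcId X) AddCommGrpCat.{u + 1} X.smallEtaleTopology

theorem isEquivalence_pull_id (X : Scheme.{u}) : (EtCoh.pull (𝟙 X)).IsEquivalence :=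
  haveI : (EtCoh.push (𝟙 X)).IsEquivalence := Functor.isEquivalence_of_iso (pushAbId X).symm
  (EtCoh.pullPushAdj (𝟙 X)).isEquivalence_left_of_isEquivalence_right

theorem isIso_baseChange0_id {P Q : Scheme.{u}} (h : P ⟶ Q) (w : 𝟙 P ≫ h = h ≫ 𝟙 Q) (F : EtCoh.Ab P) :
    IsIso (EtCoh.baseChange0 h (𝟙 Q) h (𝟙 P) w F) := by
  haveI : (EtCoh.push (𝟙 P)).IsEquivalence := Functor.isEquivalence_of_iso (pushAbId P).symm
  haveI : (EtCoh.push (𝟙 Q)).IsEquivalence := Functor.isEquivalence_of_iso (pushAbId Q).symm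
  haveI := isEquivalence_pull_id P
  haveI := isEquivalence_pull_id Q
  haveI : IsIso ((EtCoh.pullPushAdj (𝟙 P)).unit.app F) := inferInstance
  haveI : ∀ G, IsIso ((EtCoh.pullPushAdj (𝟙 Q)).counit.app G) := fun G => inferInstance
  rw [EtCoh.baseChange0, Adjunction.homEquiv_counit]
  infer_instance

variable {X S Y T : Scheme.{u}} (f : X ⟶ S) (g : T ⟶ S) (h : Y ⟶ X) (e : Y ⟶ T)
  (c : IsPullback e h g f) [AlgebraicGeometry.Etale f]

include c in
theorem isIso_baseChange0_of_etale (F : EtCoh.Ab T) : IsIso (EtCoh.baseChange0 g f h e c.w F) := by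
  haveI := isIso_baseChange0_id (P := Y) (Q := X) h ((Category.id_comp h).trans (Category.comp_id h).symm)
    ((EtCoh.pull e).obj F)
  refine EtFound.isIso_of_stalks (A := AddCommGrpCat.{u + 1}) _ fun Ω _ _ η => ?_
  have hb := H0FBC.bijective_stalk_of_local (A := AddCommGrpCat.{u + 1}) (u := 𝟙 X) (v := f) (a := 𝟙 X) c rfl c
    (IsPullback.id_horiz h) F _ (fun W => EtFound.baseChange0_unit g f h e c.w F W)
    (EtCoh.baseChange0 h (𝟙 X) h (𝟙 Y) ((Category.id_comp h).trans (Category.comp_id h).symm) ((EtCoh.pull e).obj F))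
    (fun W => EtFound.baseChange0_unit h (𝟙 X) h (𝟙 Y) _ ((EtCoh.pull e).obj F) W) η
  rwa [Category.comp_id] at hb

include c in
theorem injective_pull_of_etale (I : EtCoh.Ab T) [Injective I] : Injective ((EtCoh.pull e).obj I) := by
  haveI : AlgebraicGeometry.Etale e := MorphismProperty.of_isPullback c.flip ‹AlgebraicGeometry.Etale f›
  haveI : EtShriek.JCont e := EtFound.jCont e
  exact EtLC12.AffineLocalAcyclic.injective_pull e I

/-- Higher direct images commute with étale base change. -/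
theorem isIso_bcQ_of_etale [PreservesFiniteLimits (EtCoh.pull e)] (F : EtCoh.Ab T) (q : ℕ) :
    IsIso (EtBC.bcQ g f h e c.w q F) := by
  let G := (EtCoh.pull e).obj F
  let T₁ := (tw F).map (EtCoh.pull e)
  haveI : ∀ j, Injective (T₁.X j) := fun j => injective_pull_of_etale f g h e c ((tw F).X j)
  have hT₁ : T₁.IsExact := (tw_isExact F).map (EtCoh.pull e)
  obtain ⟨φ, hφ⟩ := exists_pullHom e F
  haveI : IsIso ((EtCoh.pull e).map (aug F)) := inferInstance
  obtain ⟨ψ, hψ⟩ := Tower.Hom.exists_of (T' := T₁) (tw_isExact G) (inv (aug G) ≫ (EtCoh.pull e).map (aug F))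
  have h1 : (φ.comp ψ).z 0 = (Tower.Hom.id T₁).z 0 := by
    rw [← cancel_epi ((EtCoh.pull e).map (aug F)), Tower.Hom.comp_z, reassoc_of% hφ, hψ, IsIso.hom_inv_id_assoc]
    exact (Category.comp_id _).symm
  have h2 : (ψ.comp φ).z 0 = (Tower.Hom.id (tw G)).z 0 := by
    rw [Tower.Hom.comp_z, hψ, Category.assoc, hφ, IsIso.inv_hom_id]
    rfl
  haveI : ∀ Z, IsIso (EtCoh.baseChange0 g f h e c.w Z) := fun Z => isIso_baseChange0_of_etale f g h e c Z
  let L : ∀ j, (EtCoh.pull f).obj ((EtCoh.push g).obj ((tw F).Z j)) ⟶ (EtCoh.Rpush h j).obj G := fun j =>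
    EtCoh.baseChange0 g f h e c.w ((tw F).Z j) ≫ (EtCoh.push h).map (φ.z j) ≫ pic (EtCoh.push h) G j
  let R : ∀ j, (EtCoh.push h).obj ((tw G).Z j) ⟶ (EtCoh.pull f).obj ((EtCoh.Rpush g j).obj F) := fun j =>
    (EtCoh.push h).map (ψ.z j) ≫ inv (EtCoh.baseChange0 g f h e c.w ((tw F).Z j)) ≫
      (EtCoh.pull f).map (pic (EtCoh.push g) F j)
  have hL : ∀ j, (EtCoh.pull f).map (pic (EtCoh.push g) F j) ≫ EtBC.bcQ g f h e c.w j F = L j :=
    fun j => bcQ_pic g f h e c.w F φ hφ j
  have hR : ∀ j, R j ≫ EtBC.bcQ g f h e c.w j F = pic (EtCoh.push h) G j := fun j => by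
    simp only [R, Category.assoc]
    rw [hL, IsIso.inv_hom_id_assoc, ← Functor.map_comp_assoc]
    refine (pic_z_eq (EtCoh.push h) (tw_isExact G) G (ψ.comp φ) (Tower.Hom.id _) h2 j).trans ?_
    simp
  haveI : Epi (EtBC.bcQ g f h e c.w q F) := by
    have : Epi (R q ≫ EtBC.bcQ g f h e c.w q F) := by rw [hR]; infer_instance
    exact epi_of_epi (R q) _
  suffices hs : ∃ r, L q ≫ r = (EtCoh.pull f).map (pic (EtCoh.push g) F q) by
    obtain ⟨r, hr⟩ := hs
    refine ⟨r, ?_, ?_⟩
    · rw [← cancel_epi ((EtCoh.pull f).map (pic (EtCoh.push g) F q)), reassoc_of% (hL q), hr]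
      exact (Category.comp_id _).symm
    · rw [← cancel_epi (EtBC.bcQ g f h e c.w q F), ← Category.assoc]
      have : EtBC.bcQ g f h e c.w q F ≫ r = 𝟙 _ := by
        rw [← cancel_epi ((EtCoh.pull f).map (pic (EtCoh.push g) F q)), reassoc_of% (hL q), hr]
        exact (Category.comp_id _).symm
      rw [this, Category.id_comp, Category.comp_id]
  cases q with
  | zero =>
    haveI := isIso_pic_zero (EtCoh.push h) G
    refine ⟨inv (pic (EtCoh.push h) G 0) ≫ R 0, ?_⟩
    simp only [L, R, Category.assoc, IsIso.hom_inv_id_assoc]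
    rw [← Functor.map_comp_assoc, show φ.z 0 ≫ ψ.z 0 = 𝟙 _ from h1]
    erw [CategoryTheory.Functor.map_id, Category.id_comp, IsIso.hom_inv_id_assoc]
  | succ q =>
    have hker : (EtCoh.push h).map ((tw G).p q) ≫ R (q + 1) = 0 := by
      simp only [R]
      rw [← Functor.map_comp_assoc, ψ.comm_p, Functor.map_comp, Category.assoc]
      show (EtCoh.push h).map (ψ.x q) ≫ (EtCoh.push h).map ((EtCoh.pull e).map ((tw F).p q)) ≫ _ = 0
      have n : (EtCoh.push h).map ((EtCoh.pull e).map ((tw F).p q)) ≫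
          inv (EtCoh.baseChange0 g f h e c.w ((tw F).Z (q + 1))) =
          inv (EtCoh.baseChange0 g f h e c.w ((tw F).X q)) ≫ (EtCoh.pull f).map ((EtCoh.push g).map ((tw F).p q)) := by
        rw [IsIso.comp_inv_eq, Category.assoc, IsIso.eq_inv_comp]
        exact (baseChange0_naturality g f h e c.w ((tw F).p q)).symm
      rw [reassoc_of% n, ← Functor.map_comp, map_p_pic, Functor.map_zero, comp_zero, comp_zero]
    obtain ⟨r, hr⟩ := CokernelCofork.IsColimit.desc' (picIsCokernel (EtCoh.push h) G q) (R (q + 1)) hker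
    refine ⟨r, ?_⟩
    replace hr : pic (EtCoh.push h) G (q + 1) ≫ r = R (q + 1) := hr
    simp only [L, Category.assoc]
    rw [hr]
    simp only [R]
    rw [← Functor.map_comp_assoc]
    have hd : (EtCoh.push h).map (φ.z (q + 1) ≫ ψ.z (q + 1)) ≫
        (inv (EtCoh.baseChange0 g f h e c.w ((tw F).Z (q + 1))) ≫
          (EtCoh.pull f).map (pic (EtCoh.push g) F (q + 1))) =
        (EtCoh.push h).map ((Tower.Hom.id T₁).z (q + 1)) ≫
        (inv (EtCoh.baseChange0 g f h e c.w ((tw F).Z (q + 1))) ≫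
          (EtCoh.pull f).map (pic (EtCoh.push g) F (q + 1))) := by
      refine Tower.Hom.map_z_comp_eq hT₁ (φ.comp ψ) (Tower.Hom.id T₁) h1 (EtCoh.push h) (q + 1) _ fun j ej => ?_
      obtain rfl : j = q := by omega
      rw [eqToHom_refl, Category.comp_id]
      show (EtCoh.push h).map ((EtCoh.pull e).map ((tw F).p j)) ≫ _ = 0
      have n : (EtCoh.push h).map ((EtCoh.pull e).map ((tw F).p j)) ≫
          inv (EtCoh.baseChange0 g f h e c.w ((tw F).Z (j + 1))) =
          inv (EtCoh.baseChange0 g f h e c.w ((tw F).X j)) ≫ (EtCoh.pull f).map ((EtCoh.push g).map ((tw F).p j)) := by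
        rw [IsIso.comp_inv_eq, Category.assoc, IsIso.eq_inv_comp]
        exact (baseChange0_naturality g f h e c.w ((tw F).p j)).symm
      rw [reassoc_of% n, ← Functor.map_comp, map_p_pic, Functor.map_zero, comp_zero]
    rw [hd, Tower.Hom.id_z]
    erw [CategoryTheory.Functor.map_id, Category.id_comp, IsIso.hom_inv_id_assoc]

end Groth.Agent.BcQCalc
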