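import Groth.Agent.BcQCalc.CompPullback
import Groth.Agent.BigSiteLib.HofPushBij
import Groth.Prelude.Def_EtLim

/-!
# The canonical map `H^n(B, f_* F) → H^n(A, F)`: injectivity
-/

set_option autoImplicit false
set_option linter.unusedSectionVars false
set_option linter.style.haveILetI false
set_option backward.isDefEq.respectTransparency false
set_option backward.isDefEq.respectTransparency.types false

universe u

open CategoryTheory CategoryTheory.Limits AlgebraicGeometry Opposite Abelian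

noncomputable section

namespace Groth.Agent.BcQCalc

open EtLim8

variable {A B : Scheme.{u}} (f : A ⟶ B) [PreservesFiniteLimits (EtCoh.pull f)]

theorem HofPush_apply (F : EtCoh.Ab A) (n : ℕ) (x : EtCoh.H B ((EtCoh.push f).obj F) n) :
    EtLim.HofPush f F n x =
      EtLim.HpullThen f ((EtCoh.push f).obj F) ((EtCoh.pullPushAdj f).counit.app F) n x := rfl

theorem HpullThen_transpose {K : EtCoh.Ab B} {F : EtCoh.Ab A} (k : K ⟶ (EtCoh.push f).obj F) (n : ℕ)
    (y : EtCoh.H B K n) :
    EtLim.HpullThen f K (((EtCoh.pullPushAdj f).homEquiv _ _).symm k) n y =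
      EtLim.HofPush f F n (y.comp (Ext.mk₀ k) (add_zero n)) := by
  rw [HofPush_apply, HpullThen_mk₀, Adjunction.homEquiv_counit]
  rfl

theorem HofPush_natural {F F' : EtCoh.Ab A} (g : F ⟶ F') (n : ℕ) (z : EtCoh.H B ((EtCoh.push f).obj F) n) :
    EtLim.HofPush f F' n (z.comp (Ext.mk₀ ((EtCoh.push f).map g)) (add_zero n)) =
      (EtLim.HofPush f F n z).comp (Ext.mk₀ g) (add_zero n) := by
  rw [HofPush_apply, HofPush_apply, HpullThen_mk₀]
  refine Eq.trans ?_ (HpullThen_comp_mk₀ f _ g n z).symm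
  exact congrArg (fun r => EtLim.HpullThen f _ r n z) ((EtCoh.pullPushAdj f).counit.naturality g)

theorem HofPush_bijective_zero (F : EtCoh.Ab A) : Function.Bijective (EtLim.HofPush f F 0) := by
  haveI : (EtCoh.pull f).IsLeftAdjoint := (EtCoh.pullPushAdj f).isLeftAdjoint
  haveI : (EtCoh.push f).IsRightAdjoint := (EtCoh.pullPushAdj f).isRightAdjoint
  haveI : (EtCoh.pull f).Additive := (EtCoh.pullPushAdj f).left_adjoint_additive
  have h := BigSiteLib.HofBij.hof_bijective_zero (EtCoh.pullPushAdj f) (EtCore.pullConst f ℤ).inv inferInstance F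
  have e : ⇑(EtLim.HofPush f F 0) =
      BigSiteLib.HofBij.hof (EtCoh.pullPushAdj f) (EtCore.pullConst f ℤ).inv F 0 := funext fun x => rfl
  rw [e]
  exact h

theorem eq_zero_of_comp_mono {K L : EtCoh.Ab B} (k : K ⟶ L) [Mono k] (y : EtCoh.H B K 0)
    (h : y.comp (Ext.mk₀ k) (add_zero 0) = 0) : y = 0 := by
  obtain ⟨φ, rfl⟩ := (Ext.mk₀_bijective _ _).2 y
  rw [Ext.mk₀_comp_mk₀, ← Ext.mk₀_zero] at h
  have := (Ext.mk₀_bijective _ _).1 h
  rw [zero_of_comp_mono k this, Ext.mk₀_zero]

theorem HofPush_injective_one (F : EtCoh.Ab A) : Function.Injective (EtLim.HofPush f F 1) := by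
  refine (injective_iff_map_eq_zero _).2 fun x hx => ?_
  haveI : (EtCoh.push f).IsRightAdjoint := (EtCoh.pullPushAdj f).isRightAdjoint
  let S := embSES F
  have hS : S.ShortExact := embSES_shortExact F
  haveI := hS.mono_f
  let S' : ShortComplex (EtCoh.Ab B) :=
    ShortComplex.mk ((EtCoh.push f).map S.f) (cokernel.π ((EtCoh.push f).map S.f)) (cokernel.condition _)
  have hS' : S'.ShortExact :=
    { exact := ShortComplex.exact_of_g_is_cokernel _ (cokernelIsCokernel _)
      mono_f := inferInstanceAs (Mono ((EtCoh.push f).map S.f))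
      epi_g := inferInstanceAs (Epi (cokernel.π _)) }
  haveI : Injective (Injective.under F) := inferInstance
  haveI : Injective S'.X₂ := Injective.injective_of_adjoint (EtCoh.pullPushAdj f) (Injective.under F)
  let k : S'.X₃ ⟶ (EtCoh.push f).obj S.X₃ := cokernel.desc _ ((EtCoh.push f).map S.g)
    (((EtCoh.push f).map_comp _ _).symm.trans ((congrArg (EtCoh.push f).map S.zero).trans (Functor.map_zero _ _ _)))
  have hk : S'.g ≫ k = (EtCoh.push f).map S.g := cokernel.π_desc _ _ _
  haveI : Mono k := by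
    refine Preadditive.mono_of_cancel_zero k fun {T} t ht => ?_
    obtain ⟨T', π, _, t', ht'⟩ := surjective_up_to_refinements_of_epi S'.g t
    refine (cancel_epi π).1 (ht'.trans (Eq.trans ?_ comp_zero.symm))
    let hlim := (KernelFork.isLimitMapConeEquiv _ _).1 (isLimitOfPreserves (EtCoh.push f) hS.fIsKernel)
    have h0 : t' ≫ (EtCoh.push f).map S.g = 0 := by
      rw [← hk, ← Category.assoc, ← ht', Category.assoc, ht, comp_zero]
    obtain ⟨l, hl⟩ := KernelFork.IsLimit.lift' hlim t' h0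
    rw [← hl]
    refine (Category.assoc _ _ _).trans ?_
    exact (congrArg (l ≫ ·) S'.zero).trans comp_zero
  let τ : S'.map (EtCoh.pull f) ⟶ S :=
    { τ₁ := (EtCoh.pullPushAdj f).counit.app S.X₁
      τ₂ := (EtCoh.pullPushAdj f).counit.app S.X₂
      τ₃ := ((EtCoh.pullPushAdj f).homEquiv _ _).symm k
      comm₁₂ := ((EtCoh.pullPushAdj f).counit.naturality S.f).symm
      comm₂₃ := by
        refine Eq.trans ?_ ((EtCoh.pullPushAdj f).homEquiv_naturality_left_symm S'.g k)
        rw [hk, Adjunction.homEquiv_counit]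
        exact ((EtCoh.pullPushAdj f).counit.naturality S.g).symm }
  obtain ⟨y, hy⟩ := Ext.covariant_sequence_exact₁ _ hS' x (Ext.eq_zero_of_injective _) (rfl : 0 + 1 = 1)
  subst hy
  have h1 := (HpullThen_extClass f hS' hS τ 0 y).symm.trans hx
  obtain ⟨z, hz⟩ := Ext.covariant_sequence_exact₃ _ hS _ _ h1
  obtain ⟨z', rfl⟩ := (HofPush_bijective_zero f S.X₂).2 z
  have h2 : EtLim.HofPush f S.X₃ 0 (z'.comp (Ext.mk₀ ((EtCoh.push f).map S.g)) (add_zero 0)) =
      EtLim.HofPush f S.X₃ 0 (y.comp (Ext.mk₀ k) (add_zero 0)) := by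
    rw [HofPush_natural, ← HpullThen_transpose]
    exact hz
  have h3 := (HofPush_bijective_zero f S.X₃).1 h2
  rw [← hk, ← Ext.mk₀_comp_mk₀, ← Ext.comp_assoc_of_third_deg_zero, ← sub_eq_zero] at h3
  have h4 : z'.comp (Ext.mk₀ S'.g) (add_zero 0) - y = 0 := by
    refine eq_zero_of_comp_mono k _ (Eq.trans ?_ h3)
    rw [sub_eq_add_neg, sub_eq_add_neg, Ext.add_comp, Ext.neg_comp]
  rw [← sub_eq_zero.1 h4, Ext.comp_assoc_of_second_deg_zero, hS'.comp_extClass, Ext.comp_zero]

/-- `H^{n+1}(B, f_* F) → H^{n+1}(A, F)` is injective when the higher direct images vanish up to `n`. -/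
theorem HofPush_injective_succ : ∀ (n : ℕ) (F : EtCoh.Ab A),
    (∀ j, j < n → IsZero ((EtCoh.Rpush f (j + 1)).obj F)) → Function.Injective (EtLim.HofPush f F (n + 1)) := by
  haveI : (EtCoh.push f).IsRightAdjoint := (EtCoh.pullPushAdj f).isRightAdjoint
  intro n
  induction n with
  | zero => exact fun F _ => HofPush_injective_one f F
  | succ n ih =>
    intro F hF
    refine (injective_iff_map_eq_zero _).2 fun x hx => ?_
    let S := embSES F
    have hS : S.ShortExact := embSES_shortExact F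
    have hS' := push_shortExact f hS (hF 0 (Nat.succ_pos n))
    haveI : Injective S.X₂ := inferInstanceAs (Injective (Injective.under F))
    haveI : Injective (S.map (EtCoh.push f)).X₂ :=
      Injective.injective_of_adjoint (EtCoh.pullPushAdj f) S.X₂
    let τ : (S.map (EtCoh.push f)).map (EtCoh.pull f) ⟶ S :=
      { τ₁ := (EtCoh.pullPushAdj f).counit.app S.X₁
        τ₂ := (EtCoh.pullPushAdj f).counit.app S.X₂
        τ₃ := (EtCoh.pullPushAdj f).counit.app S.X₃
        comm₁₂ := ((EtCoh.pullPushAdj f).counit.naturality S.f).symm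
        comm₂₃ := ((EtCoh.pullPushAdj f).counit.naturality S.g).symm }
    obtain ⟨y, hy⟩ := Ext.covariant_sequence_exact₁ _ hS' x (Ext.eq_zero_of_injective _)
      (rfl : (n + 1) + 1 = n + 1 + 1)
    subst hy
    have h1 := (HpullThen_extClass f hS' hS τ (n + 1) y).symm.trans hx
    obtain ⟨z, hz⟩ := Ext.covariant_sequence_exact₃ _ hS _ _ h1
    let T := SESResLib.derivedLES (EtCoh.push f)
    have hC : ∀ j, j < n → IsZero ((EtCoh.Rpush f (j + 1)).obj S.X₃) := fun j hj =>
      (T.exact₃ S hS (j + 1) (j + 2) rfl).isZero_X₂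
        (((EtCoh.push f).isZero_rightDerived_obj_injective_succ j S.X₂).eq_of_src _ _)
        ((hF (j + 1) (by omega)).eq_of_tgt _ _)
    have hy0 : y = 0 := by
      refine (injective_iff_map_eq_zero _).1 (ih S.X₃ hC) y ?_
      refine Eq.trans ?_ (hz.symm.trans ?_)
      · rfl
      · rw [Ext.eq_zero_of_injective z, Ext.zero_comp]
    rw [hy0, Ext.zero_comp]

/-- Pullback along the square, on classes coming from the direct image. -/
theorem Hpull_HofPush_square {X Y X' Y' : Scheme.{u}} (p : X ⟶ Y) (g : Y' ⟶ Y) (p' : X' ⟶ Y') (g' : X' ⟶ X)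
    (w : g' ≫ p = p' ≫ g) (F : EtCoh.Ab X) (q : ℕ)
    [PreservesFiniteLimits (EtCoh.pull p)] [PreservesFiniteLimits (EtCoh.pull g)]
    [PreservesFiniteLimits (EtCoh.pull p')] [PreservesFiniteLimits (EtCoh.pull g')]
    (ζ : EtCoh.H Y ((EtCoh.push p).obj F) q) :
    EtCore.Hpull g' F q (EtLim.HofPush p F q ζ) =
      EtLim.HofPush p' ((EtCoh.pull g').obj F) q
        ((EtCore.Hpull g ((EtCoh.push p).obj F) q ζ).comp
          (Ext.mk₀ (EtCoh.baseChange0 p g p' g' w F)) (add_zero q)) := by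
  haveI := EtFound.pull_preservesFiniteLimits (p' ≫ g)
  let N := (EtCoh.pull g').obj F
  let γ := (EtCore.pullCongr w.symm ≪≫ EtCore.pullComp g' p).hom.app ((EtCoh.push p).obj F) ≫
    (EtCoh.pull g').map ((EtCoh.pullPushAdj p).counit.app F) ≫ 𝟙 N
  have hL : Compat ((EtCoh.pullPushAdj p).homEquiv _ _ ((EtCoh.pullPushAdj p).counit.app F))
      ((EtCoh.pullPushAdj g').homEquiv _ _ (𝟙 N)) ((EtCoh.pullPushAdj (p' ≫ g)).homEquiv _ _ γ) :=
    compat_of_pullComp w.symm _ _ γ rfl
  have hA : (EtCoh.pullPushAdj p).homEquiv _ _ ((EtCoh.pullPushAdj p).counit.app F) = 𝟙 _ :=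
    (Adjunction.homEquiv_unit ..).trans ((EtCoh.pullPushAdj p).right_triangle_components F)
  have hR : Compat ((EtCoh.pullPushAdj g).homEquiv _ _ (EtCoh.baseChange0 p g p' g' w F))
      ((EtCoh.pullPushAdj p').homEquiv _ _ ((EtCoh.pullPushAdj p').counit.app N))
      ((EtCoh.pullPushAdj (p' ≫ g)).homEquiv _ _ γ) := by
    intro V W W' a wa b wb e we hbe s
    let c : W'.left ⟶ ((EtCoh.bc p).obj V).left := pullback.lift e (W'.hom ≫ g') (by
      rw [we, Category.assoc, w])
    have wc : c ≫ ((EtCoh.bc p).obj V).hom = W'.hom ≫ g' := pullback.lift_snd _ _ _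
    have hc : c ≫ bcFst p V = b ≫ a := (pullback.lift_fst _ _ _).trans hbe.symm
    have hB : (EtCoh.pullPushAdj p').homEquiv _ _ ((EtCoh.pullPushAdj p').counit.app N) = 𝟙 _ :=
      (Adjunction.homEquiv_unit ..).trans ((EtCoh.pullPushAdj p').right_triangle_components N)
    rw [hB]
    refine (res_baseChange0 p g p' g' w F a wa b wb c wc hc s).trans ?_
    refine Eq.trans ?_ (hL V ((EtCoh.bc p).obj V) W' (bcFst p V) (bcFst_w p V) c wc e we (pullback.lift_fst _ _ _) s)
    rw [hA, res_bcFst]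
    exact (congrArg (fun r => res g' r c wc s) ((EtCoh.pullPushAdj g').homEquiv_id F)).symm
  have e1 : EtCore.Hpull g' F q (EtLim.HofPush p F q ζ) =
      EtLim.HpullThen g' F (𝟙 N) q (EtLim.HpullThen p _ ((EtCoh.pullPushAdj p).counit.app F) q ζ) := by
    rw [HpullThen_apply g', Ext.comp_mk₀_id]
    rfl
  refine e1.trans ((HpullThen_HpullThen p g' (p' ≫ g) w _ _ γ hL q ζ).trans ?_)
  rw [HofPush_apply, ← HpullThen_apply g]
  exact (HpullThen_HpullThen g p' (p' ≫ g) rfl _ _ γ hR q ζ).symm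

end Groth.Agent.BcQCalc
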