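import Groth.Agent.EtFound.Efface
import Groth.Agent.EtLim8.Res
import Groth.Agent.EtLC12.RpushTorsion
import Groth.Agent.EtLC12.QcqsAcyclic
import Groth.Agent.S8525
import Groth.Agent.SiteBase.Horseshoe
import Groth.Prelude.Def_EtAcyc

/-!
# Torsion sheaves embed into acyclic torsion sheaves
-/

set_option autoImplicit false
set_option linter.unusedSectionVars false
set_option linter.style.haveILetI false
set_option backward.isDefEq.respectTransparency false
set_option backward.isDefEq.respectTransparency.types false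

universe u

open CategoryTheory CategoryTheory.Limits AlgebraicGeometry Opposite Abelian

noncomputable section

namespace Groth.Agent.BcQCalc

open EtFound

variable (L : Set ℕ)

/-- A cofinal chain of integers with prime factors in `L`. -/
def lnum (k : ℕ) : ℕ :=
  haveI := Classical.decPred (EtAcyc.PrimesIn L)
  ((Finset.range (k + 1)).filter (EtAcyc.PrimesIn L)).lcm id

theorem dvd_lnum {m : ℕ} (hm : EtAcyc.PrimesIn L m) {k : ℕ} (hk : m ≤ k) : m ∣ lnum L k := by
  classical
  exact Finset.dvd_lcm (f := id) (Finset.mem_filter.2 ⟨Finset.mem_range.2 (by omega), hm⟩)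

theorem lnum_dvd {i j : ℕ} (h : i ≤ j) : lnum L i ∣ lnum L j := by
  classical
  refine Finset.lcm_dvd fun m hm => ?_
  obtain ⟨h1, h2⟩ := Finset.mem_filter.1 hm
  exact dvd_lnum L h2 (by have := Finset.mem_range.1 h1; omega)

theorem primesIn_lnum (k : ℕ) : EtAcyc.PrimesIn L (lnum L k) := by
  classical
  refine ⟨?_, fun p hp hpd => ?_⟩
  · refine Nat.pos_of_ne_zero fun h => ?_
    obtain ⟨m, hm, h0⟩ := Finset.lcm_eq_zero_iff.1 h
    have := ((Finset.mem_filter.1 hm).2).1
    simp only [id] at h0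
    omega
  · have hd : lnum L k ∣ ((Finset.range (k + 1)).filter (EtAcyc.PrimesIn L)).prod id :=
      Finset.lcm_dvd fun m hm => Finset.dvd_prod_of_mem id hm
    obtain ⟨m, hm, hpm⟩ := (Prime.dvd_finset_prod_iff hp.prime id).1 (hpd.trans hd)
    exact (Finset.mem_filter.1 hm).2.2 p hp hpm

variable {X : Scheme.{u}} (I : EtCoh.Ab X)

/-- Multiplication between the stages. -/
def locD : ULift.{u + 1} ℕ ⥤ EtCoh.Ab X where
  obj _ := I
  map {i j} _ := (lnum L j.down / lnum L i.down) • 𝟙 I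
  map_id i := by rw [Nat.div_self (primesIn_lnum L i.down).1, one_smul]
  map_comp {i j k} f g := by
    rw [Preadditive.comp_nsmul, Preadditive.nsmul_comp, Category.id_comp, smul_smul,
      Nat.div_mul_div_comm (lnum_dvd L (show j.down ≤ k.down from (leOfHom g : j ≤ k)))
        (lnum_dvd L (show i.down ≤ j.down from (leOfHom f : i ≤ j)))]
    congr 1
    rw [Nat.mul_comm (lnum L j.down) (lnum L i.down),
      Nat.mul_div_mul_right _ _ (primesIn_lnum L j.down).1]

/-- The sheaf with the numbers in `L` inverted. -/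
def loc : EtCoh.Ab X := colimit (locD L I)

/-- The base stage. -/
def toLoc : I ⟶ loc L I := colimit.ι (locD L I) ⟨0⟩

theorem lnum_zero : lnum L 0 = 1 := by
  classical
  refine Nat.dvd_one.1 (Finset.lcm_dvd fun m hm => ?_)
  obtain ⟨h1, h2⟩ := Finset.mem_filter.1 hm
  have := Finset.mem_range.1 h1
  have := h2.1
  omega

theorem locD_map_zero (k : ULift.{u + 1} ℕ) (h : (⟨0⟩ : ULift.{u + 1} ℕ) ⟶ k) :
    (locD L I).map h = lnum L k.down • 𝟙 I := by
  show (lnum L k.down / lnum L 0) • 𝟙 I = _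
  rw [lnum_zero, Nat.div_one]

theorem toLoc_eq (k : ULift.{u + 1} ℕ) : toLoc L I = (lnum L k.down • 𝟙 I) ≫ colimit.ι (locD L I) k := by
  let h : (⟨0⟩ : ULift.{u + 1} ℕ) ⟶ k := homOfLE (Nat.zero_le k.down)
  exact (colimit.w (locD L I) h).symm.trans (congrArg (· ≫ colimit.ι (locD L I) k) (locD_map_zero L I k h))

theorem nsmul_id_app (m : ℕ) (V : X.Etaleᵒᵖ) (x : I.obj.obj V) :
    ((m • 𝟙 I).hom.app V).hom x = m • x := by
  induction m with
  | zero => rw [zero_smul, zero_smul]; rfl
  | succ m ih => rw [succ_nsmul, succ_nsmul, ← ih]; rfl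

theorem toLoc_surjective [Injective I] {V : X.Etale} (hV : IsQcqsObj V) :
    Function.Surjective ((toLoc L I).hom.app (op V)).hom := by
  intro z
  haveI := preservesColimitsOfShape_sections_qcqs_ab V hV (ULift.{u + 1} ℕ)
  let hc := isColimitOfPreserves (sheafToPresheaf X.smallEtaleTopology AddCommGrpCat.{u + 1} ⋙
    (evaluation X.Etaleᵒᵖ AddCommGrpCat.{u + 1}).obj (op V)) (colimit.isColimit (locD L I))
  obtain ⟨k, y, rfl⟩ := Concrete.isColimit_exists_rep _ hc z
  obtain ⟨x, hx⟩ := TorsionInd.sections_divisible I (primesIn_lnum L k.down).1 V y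
  refine ⟨x, ?_⟩
  rw [toLoc_eq L I k]
  refine congrArg ((colimit.ι (locD L I) k).hom.app (op V)).hom ?_
  exact (nsmul_id_app I _ _ x).trans hx

theorem epi_toLoc [Injective I] : Epi (toLoc L I) := by
  refine (Sheaf.isLocallySurjective_iff_epi' AddCommGrpCat.{u + 1} (toLoc L I)).1 ⟨fun {V} s => ?_⟩
  refine (mem_topology_iff _).2 fun v => ?_
  obtain ⟨W, g, w, hW, hw⟩ := EtLC12.RpushTorsion.exists_affine_nhd v
  haveI := hW
  obtain ⟨t, ht⟩ := toLoc_surjective L I (isQcqsObj_of_isAffine W) (((loc L I).obj.map g.op).hom s)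
  exact ⟨W, g, w, ⟨t, ht⟩, hw⟩

theorem isCechAcyclic_loc [Injective I] : EtLC12.QcqsAcyclic.IsCechAcyclic (loc L I) :=
  EtLC12.QcqsAcyclic.isCechAcyclic_colimit (locD L I)
    fun _ => EtLC12.QcqsAcyclic.isCechAcyclic_of_injective I

/-- The `L`-torsion part. -/
def tor : EtCoh.Ab X := kernel (toLoc L I)

/-- The sequence. -/
def torSES : ShortComplex (EtCoh.Ab X) :=
  ShortComplex.mk (kernel.ι (toLoc L I)) (toLoc L I) (kernel.condition _)

theorem torSES_shortExact [Injective I] : (torSES L I).ShortExact :=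
  { exact := ShortComplex.exact_of_f_is_kernel _ (kernelIsKernel _)
    mono_f := inferInstanceAs (Mono (kernel.ι _))
    epi_g := epi_toLoc L I }

theorem isLTorsion_tor : EtAcyc.IsLTorsion L (tor L I) := by
  rw [S8525.result]
  intro Ω _ _ ξ t
  haveI : (EtCoh.stalk ξ).Additive := Functor.additive_of_preserves_binary_products _
  let a : (EtCoh.stalk ξ).obj I := (EtCoh.stalk ξ).map (kernel.ι (toLoc L I)) t
  let hc := isColimitOfPreserves (EtCoh.stalk ξ) (colimit.isColimit (locD L I))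
  have h0 : (EtCoh.stalk ξ).map (toLoc L I) a = 0 := by
    refine (ConcreteCategory.congr_hom ((EtCoh.stalk ξ).map_comp _ _) t).symm.trans ?_
    rw [kernel.condition, Functor.map_zero]
    rfl
  obtain ⟨k, u, v, huv⟩ := Concrete.isColimit_exists_of_rep_eq _ hc (i := (⟨0⟩ : ULift.{u + 1} ℕ))
    (j := ⟨0⟩) a 0 (h0.trans (map_zero _).symm)
  refine ⟨lnum L k.down, primesIn_lnum L _, ?_⟩
  refine (AddCommGrpCat.mono_iff_injective ((EtCoh.stalk ξ).map (kernel.ι (toLoc L I)))).1 inferInstance ?_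
  rw [map_nsmul, map_zero]
  have h0' : (EtCoh.stalk ξ).map (lnum L k.down • 𝟙 I) = lnum L k.down • 𝟙 _ := by
    rw [Functor.map_nsmul, CategoryTheory.Functor.map_id]
  have h1 : (EtCoh.stalk ξ).map ((locD L I).map u) = lnum L k.down • 𝟙 _ :=
    (congrArg (EtCoh.stalk ξ).map (locD_map_zero L I k u)).trans h0'
  have h2 : (lnum L k.down • 𝟙 ((EtCoh.stalk ξ).obj I) : _ ⟶ _) a = (0 : (EtCoh.stalk ξ).obj I) :=
    ((congrArg (fun r => r.hom a) h1).symm.trans huv).trans (map_zero _)
  exact h2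

theorem comp_toLoc_eq_zero {F : EtCoh.Ab X} (hF : EtAcyc.IsLTorsion L F) (a : F ⟶ I) : a ≫ toLoc L I = 0 := by
  refine Sheaf.hom_ext (NatTrans.ext (funext fun ⟨U⟩ => AddCommGrpCat.hom_ext (AddMonoidHom.ext fun s => ?_)))
  refine EtLim8.sect_ext (loc L I) _ _ fun x => ?_
  obtain ⟨V, g, m, ⟨v, hv⟩, hm, h0⟩ := hF U s x
  refine ⟨V, g, v, hv, ?_⟩
  refine (NatTrans.naturality_apply (a ≫ toLoc L I).hom g.op s).symm.trans (Eq.trans ?_ (map_zero _).symm)
  obtain ⟨c, hc⟩ := dvd_lnum L hm (le_refl m)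
  rw [toLoc_eq L I ⟨m⟩, ← Category.assoc, Preadditive.comp_nsmul, Category.comp_id, Preadditive.nsmul_comp,
    EtFound.nsmul_hom_app]
  show lnum L m • ((a ≫ colimit.ι (locD L I) ⟨m⟩).hom.app (op V)).hom (F.obj.map g.op s) = 0
  rw [← map_nsmul, hc, Nat.mul_comm, mul_smul, h0, smul_zero, map_zero]

/-- Every `L`-torsion sheaf embeds into the torsion part of an injective sheaf. -/
theorem exists_mono_tor {F : EtCoh.Ab X} (hF : EtAcyc.IsLTorsion L F) :
    ∃ a : F ⟶ tor L (Injective.under F), Mono a := by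
  let a := kernel.lift (toLoc L (Injective.under F)) (Injective.ι F) (comp_toLoc_eq_zero L _ hF _)
  exact ⟨a, mono_of_mono_fac (kernel.lift_ι _ _ _)⟩

/-- The torsion part of an injective sheaf is acyclic on a qcqs scheme. -/
theorem subsingleton_H_tor [Injective I] [CompactSpace X] [QuasiSeparatedSpace X] (q : ℕ) :
    Subsingleton (EtCoh.H X (tor L I) (q + 1)) := by
  have hS := torSES_shortExact L I
  haveI : Injective (torSES L I).X₂ := ‹Injective I›
  refine subsingleton_of_forall_eq 0 fun x => ?_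
  obtain ⟨z, hz⟩ := Ext.covariant_sequence_exact₁ _ hS x (Ext.eq_zero_of_injective _) (rfl : q + 1 = q + 1)
  rw [← hz]
  cases q with
  | zero =>
    obtain ⟨y, hy⟩ := toLoc_surjective L I (V := EtCoh.top X) ⟨‹CompactSpace X›, ‹QuasiSeparatedSpace X›⟩
      (Sheaf.H.equiv₀ (loc L I) (EtCore.topIsTerminal X) z)
    have hz' : z = ((Sheaf.H.equiv₀ I (EtCore.topIsTerminal X)).symm y).comp (Ext.mk₀ (torSES L I).g) (add_zero 0) := by
      refine (Sheaf.H.equiv₀ (loc L I) (EtCore.topIsTerminal X)).injective (hy.symm.trans ?_)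
      refine Eq.trans ?_ (Sheaf.H.equiv₀_naturality (EtCore.topIsTerminal X) (toLoc L I) _)
      exact congrArg _ ((Sheaf.H.equiv₀ I (EtCore.topIsTerminal X)).apply_symm_apply y).symm
    rw [hz', Ext.comp_assoc_of_second_deg_zero]
    erw [hS.comp_extClass]
    simp
  | succ q =>
    haveI : Subsingleton (EtCoh.H X (loc L I) (q + 1)) :=
      EtLC12.QcqsAcyclic.subsingleton_H_of_isCechAcyclic q _ (isCechAcyclic_loc L I)
    have hz0 := this.allEq z 0
    erw [hz0]
    simp

section Rpush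

theorem epi_of_natIso {C D : Type*} [Category C] [Category D] {F G : C ⥤ D} (e : F ≅ G) {A B : C} (a : A ⟶ B)
    [Epi (G.map a)] : Epi (F.map a) := by
  rw [show F.map a = e.hom.app A ≫ G.map a ≫ e.inv.app B by
    rw [← e.hom.naturality_assoc]; simp]
  infer_instance

variable {S : Scheme.{u}} (p : X ⟶ S) [QuasiCompact p] [QuasiSeparated p] [EtCoh.BCCont p]

theorem epi_push_toLoc [Injective I] : Epi ((EtCoh.push p).map (toLoc L I)) := by
  refine (Sheaf.isLocallySurjective_iff_epi' AddCommGrpCat.{u + 1} ((EtCoh.push p).map (toLoc L I))).1 ⟨fun {V} s => ?_⟩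
  refine (mem_topology_iff _).2 fun v => ?_
  obtain ⟨W, g, w, hW, hw⟩ := EtLC12.RpushTorsion.exists_affine_nhd v
  obtain ⟨t, ht⟩ := toLoc_surjective L I (EtLC12.RpushTorsion.isQcqsObj_bc p W hW)
    ((((EtCoh.push p).obj (loc L I)).obj.map g.op).hom s)
  exact ⟨W, g, w, ⟨t, ht⟩, hw⟩

theorem isZero_Rpush_tor [Injective I] (q : ℕ) : IsZero ((EtCoh.Rpush p (q + 1)).obj (tor L I)) := by
  haveI : (EtCoh.push p).IsRightAdjoint := (EtCoh.pullPushAdj p).isRightAdjoint
  let T := SESResLib.derivedLES (EtCoh.push p)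
  have hS := torSES_shortExact L I
  refine (T.exact₁ (torSES L I) hS q (q + 1) rfl).isZero_X₂ ?_
    (((EtCoh.push p).isZero_rightDerived_obj_injective_succ q I).eq_of_tgt _ _)
  cases q with
  | zero =>
    haveI : Epi ((EtCoh.push p).map (torSES L I).g) := epi_push_toLoc L I p
    haveI : Epi (((EtCoh.push p).rightDerived 0).map (torSES L I).g) :=
      epi_of_natIso (EtCoh.push p).rightDerivedZeroIsoSelf (torSES L I).g
    exact (cancel_epi (((EtCoh.push p).rightDerived 0).map (torSES L I).g)).1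
      ((T.comp_δ (torSES L I) hS 0 1 rfl).trans comp_zero.symm)
  | succ q =>
    exact (EtLC12.RpushTorsion.isZero_Rpush_of_isCechAcyclic p (loc L I) (isCechAcyclic_loc L I) q).eq_of_src _ _

end Rpush

end Groth.Agent.BcQCalc
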