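import Groth.Agent.BcQCalc.Tower
import Groth.Agent.EtLim8.HMaps

/-!
# Cohomology classes of sections of cycles
-/

set_option autoImplicit false
set_option linter.unusedSectionVars false
set_option linter.style.haveILetI false
set_option backward.isDefEq.respectTransparency false
set_option backward.isDefEq.respectTransparency.types false

universe u

open CategoryTheory CategoryTheory.Limits AlgebraicGeometry Abelian

noncomputable section

namespace Groth.Agent.BcQCalc

/-- Drop the bottom piece. -/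
@[simps]
def Tower.shift {C : Type*} [Category C] [Abelian C] (T : Tower C) : Tower C where
  Z j := T.Z (j + 1)
  X j := T.X (j + 1)
  i j := T.i (j + 1)
  p j := T.p (j + 1)
  w j := T.w (j + 1)

theorem Tower.IsExact.shift {C : Type*} [Category C] [Abelian C] {T : Tower C} (hT : T.IsExact) :
    T.shift.IsExact :=
  fun j => hT (j + 1)

/-- Drop the bottom piece of a morphism. -/
@[simps]
def Tower.Hom.shift {C : Type*} [Category C] [Abelian C] {T T' : Tower C} (φ : Tower.Hom T T') :
    Tower.Hom T.shift T'.shift where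
  z j := φ.z (j + 1)
  x j := φ.x (j + 1)
  comm_i j := φ.comm_i (j + 1)
  comm_p j := φ.comm_p (j + 1)

variable {X : Scheme.{u}}

/-- The class in degree `q` of a section of the cycles in degree `q`. -/
def cl : ∀ (q : ℕ) (T : Tower (EtCoh.Ab X)), T.IsExact →
    EtCoh.H X (T.Z q) 0 → EtCoh.H X (T.Z 0) q
  | 0, _, _, x => x
  | q + 1, T, hT, x => (cl q T.shift hT.shift x).comp (hT 0).extClass rfl

theorem cl_add : ∀ (q : ℕ) (T : Tower (EtCoh.Ab X)) (hT : T.IsExact) (x y : EtCoh.H X (T.Z q) 0),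
    cl q T hT (x + y) = cl q T hT x + cl q T hT y := by
  intro q
  induction q with
  | zero => exact fun T hT x y => rfl
  | succ q ih =>
    intro T hT x y
    show Ext.comp (cl q T.shift hT.shift (x + y)) _ _ = _
    exact (congrArg (fun r => Ext.comp r (hT 0).extClass rfl) (ih T.shift hT.shift x y)).trans (Ext.add_comp _ _ _ _)

/-- `cl` as a homomorphism. -/
def clHom (q : ℕ) (T : Tower (EtCoh.Ab X)) (hT : T.IsExact) : EtCoh.H X (T.Z q) 0 →+ EtCoh.H X (T.Z 0) q :=
  AddMonoidHom.mk' (cl q T hT) (cl_add q T hT)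

/-- Classes are compatible with inverse images. -/
theorem HpullThen_cl {Y : Scheme.{u}} (u : Y ⟶ X) [PreservesFiniteLimits (EtCoh.pull u)] :
    ∀ (q : ℕ) (T : Tower (EtCoh.Ab X)) (hT : T.IsExact) (T' : Tower (EtCoh.Ab Y)) (hT' : T'.IsExact)
      (φ : Tower.Hom (T.map (EtCoh.pull u)) T') (x : EtCoh.H X (T.Z q) 0),
      EtLim.HpullThen u (T.Z 0) (φ.z 0) q (cl q T hT x) = cl q T' hT' (EtLim.HpullThen u (T.Z q) (φ.z q) 0 x) := by
  intro q
  induction q with
  | zero => exact fun T hT T' hT' φ x => rfl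
  | succ q ih =>
    intro T hT T' hT' φ x
    let φs : Tower.Hom (T.shift.map (EtCoh.pull u)) T'.shift :=
      { z := fun j => φ.z (j + 1)
        x := fun j => φ.x (j + 1)
        comm_i := fun j => φ.comm_i (j + 1)
        comm_p := fun j => φ.comm_p (j + 1) }
    let τ : (T.sc 0).map (EtCoh.pull u) ⟶ T'.sc 0 :=
      ShortComplex.homMk (φ.z 0) (φ.x 0) (φ.z 1) (φ.comm_i 0).symm (φ.comm_p 0).symm
    exact (EtLim8.HpullThen_extClass u (hT 0) (hT' 0) τ q (cl q T.shift hT.shift x)).trans
      (congrArg (fun r => Ext.comp r (hT' 0).extClass rfl) (ih T.shift hT.shift T'.shift hT'.shift φs x))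

variable (T : Tower (EtCoh.Ab X))

/-- The terms have no higher cohomology. -/
def Acyclic : Prop := ∀ j i, Subsingleton (EtCoh.H X (T.X j) (i + 1))

theorem bijective_extClass_comp {T : Tower (EtCoh.Ab X)} (hT : T.IsExact) (hA : Acyclic T) (q : ℕ) :
    Function.Bijective (fun x : EtCoh.H X (T.Z 1) (q + 1) => (x.comp (hT 0).extClass rfl : EtCoh.H X (T.Z 0) (q + 2))) := by
  haveI := hA 0 q
  haveI := hA 0 (q + 1)
  refine ⟨(injective_iff_map_eq_zero ((hT 0).extClass.postcomp (EtCoh.const X ℤ) rfl)).2 fun x hx => ?_, fun y => ?_⟩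
  · obtain ⟨x₂, rfl⟩ := Ext.covariant_sequence_exact₃ _ (hT 0) x rfl hx
    rw [Subsingleton.elim x₂ 0]
    simp
  · exact Ext.covariant_sequence_exact₁ _ (hT 0) y (Subsingleton.elim _ _) rfl

theorem surjective_cl : ∀ (q : ℕ) (T : Tower (EtCoh.Ab X)) (hT : T.IsExact), Acyclic T →
    Function.Surjective (cl q T hT) := by
  intro q
  induction q with
  | zero => exact fun T hT _ y => ⟨y, rfl⟩
  | succ q ih =>
    intro T hT hA y
    haveI := hA 0 q
    obtain ⟨z, hz⟩ := Ext.covariant_sequence_exact₁ _ (hT 0) y (Subsingleton.elim _ _) rfl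
    obtain ⟨x, rfl⟩ := ih T.shift hT.shift (fun j i => hA (j + 1) i) z
    exact ⟨x, hz⟩

/-- The kernel of the class map consists of the boundaries. -/
theorem cl_eq_zero_iff : ∀ (q : ℕ) (T : Tower (EtCoh.Ab X)) (hT : T.IsExact), Acyclic T →
    ∀ x : EtCoh.H X (T.Z (q + 1)) 0, cl (q + 1) T hT x = 0 ↔
      ∃ w : EtCoh.H X (T.X q) 0, w.comp (Ext.mk₀ (T.p q)) (add_zero 0) = x := by
  intro q
  induction q with
  | zero =>
    intro T hT _ x
    show Ext.comp x (hT 0).extClass _ = 0 ↔ _
    refine ⟨fun hx => Ext.covariant_sequence_exact₃ _ (hT 0) x rfl hx, ?_⟩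
    rintro ⟨w, rfl⟩
    rw [Ext.comp_assoc_of_second_deg_zero]
    erw [ShortComplex.ShortExact.comp_extClass (hT 0)]
    simp
  | succ q ih =>
    intro T hT hA x
    show Ext.comp (cl (q + 1) T.shift hT.shift x) (hT 0).extClass _ = 0 ↔ _
    refine Iff.trans ?_ (ih T.shift hT.shift (fun j i => hA (j + 1) i) x)
    constructor
    · intro h
      refine (bijective_extClass_comp hT hA q).1 ?_
      simp only [Ext.zero_comp]
      exact h
    · intro h
      rw [h]
      simp

end Groth.Agent.BcQCalc
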