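import Groth.Agent.BcQCalc.Pi

/-!
# The two edge maps on classes of cycles
-/

set_option autoImplicit false
set_option linter.unusedSectionVars false
set_option linter.style.haveILetI false
set_option backward.isDefEq.respectTransparency false
set_option backward.isDefEq.respectTransparency.types false

universe v₁ v₂ v₃ u₁ u₂ u₃

open CategoryTheory CategoryTheory.Limits HomologicalComplex

noncomputable section

namespace Groth.Agent.BcQCalc

open LocCohLib

variable {A : Type u₁} [Category.{v₁} A] [Abelian A] [HasInjectiveResolutions A]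
  {B : Type u₂} [Category.{v₂} B] [Abelian B] [HasInjectiveResolutions B]
  {C : Type u₃} [Category.{v₃} C] [Abelian C]
  (Φ : A ⥤ B) [Φ.Additive] [PreservesFiniteLimits Φ]
  (Ψ : B ⥤ C) [Ψ.Additive] [PreservesFiniteLimits Ψ]

omit [HasInjectiveResolutions B] in
@[reassoc]
theorem cyclesComparison_comp [PreservesFiniteLimits (Φ ⋙ Ψ)] (K : CochainComplex A ℕ) (q : ℕ) :
    RDer.cyclesComparison Ψ ((Φ.mapHomologicalComplex _).obj K) q ≫ Ψ.map (RDer.cyclesComparison Φ K q) =
      RDer.cyclesComparison (Φ ⋙ Ψ) K q := by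
  haveI : Mono ((Φ ⋙ Ψ).map (K.iCycles q)) := inferInstance
  rw [← cancel_mono ((Φ ⋙ Ψ).map (K.iCycles q)), RDer.cyclesComparison_i, Category.assoc,
    show Ψ.map (RDer.cyclesComparison Φ K q) ≫ (Φ ⋙ Ψ).map (K.iCycles q) =
      Ψ.map (((Φ.mapHomologicalComplex _).obj K).iCycles q) from
      (Ψ.map_comp _ _).symm.trans (congrArg Ψ.map (RDer.cyclesComparison_i Φ K q))]
  exact RDer.cyclesComparison_i Ψ _ q

omit [HasInjectiveResolutions B] in
/-- The second edge map on classes of cycles. -/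
@[reassoc]
theorem pic_edgeOut [PreservesFiniteLimits (Φ ⋙ Ψ)] (X : A) (q : ℕ) :
    pic (Φ ⋙ Ψ) X q ≫ RDer.edgeOut Φ Ψ q X = Ψ.map (pic Φ X q) := by
  let I := injectiveResolution X
  rw [← cancel_epi (RDer.cyclesComparison (Φ ⋙ Ψ) I.cocomplex q), cyclesComparison_pic_assoc,
    ← cyclesComparison_comp Φ Ψ, Category.assoc, ← Ψ.map_comp, cyclesComparison_pic, RDer.edgeOut,
    Iso.inv_hom_id_assoc, Ψ.map_comp]
  exact RDer.homologyπ_homologyComparison_assoc Ψ ((Φ.mapHomologicalComplex _).obj I.cocomplex) q _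

variable [Φ.PreservesInjectiveObjects]

/-- The comparison of towers underlying the first edge map. -/
def edgeInHom (X : A) : Tower.Hom (tw (Φ.obj X)) ((tw X).map Φ) :=
  let d := RDer.descToInjectives (𝟙 (Φ.obj X)) (injectiveResolution (Φ.obj X)).cocomplex
    (injectiveResolution (Φ.obj X)).ι ((Φ.mapHomologicalComplex _).obj (injectiveResolution X).cocomplex)
    (RDer.mapAug Φ (injectiveResolution X).ι)
  { z := fun j => cyclesMap d j ≫ RDer.cyclesComparison Φ (injectiveResolution X).cocomplex j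
    x := fun j => d.f j
    comm_i := fun j => by
      show (injectiveResolution (Φ.obj X)).cocomplex.iCycles j ≫ d.f j = (cyclesMap d j ≫ _) ≫ Φ.map _
      rw [Category.assoc]
      exact (cyclesMap_i d j).symm.trans (congrArg (cyclesMap d j ≫ ·) (RDer.cyclesComparison_i Φ _ j).symm)
    comm_p := fun j => by
      show (injectiveResolution (Φ.obj X)).cocomplex.toCycles j (j + 1) ≫ cyclesMap d (j + 1) ≫ _ = d.f j ≫ Φ.map _
      rw [← toCycles_cyclesComparison_nat Φ X j, ← Category.assoc, ← Category.assoc]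
      refine congrArg (· ≫ _) ?_
      rw [← cancel_mono (((Φ.mapHomologicalComplex _).obj (injectiveResolution X).cocomplex).iCycles (j + 1))]
      simp only [Category.assoc, toCycles_i, cyclesMap_i, toCycles_i_assoc]
      exact (d.comm j (j + 1)).symm }

theorem aug_edgeInHom (X : A) : aug (Φ.obj X) ≫ (edgeInHom Φ X).z 0 = Φ.map (aug X) := by
  let d := RDer.descToInjectives (𝟙 (Φ.obj X)) (injectiveResolution (Φ.obj X)).cocomplex
    (injectiveResolution (Φ.obj X)).ι ((Φ.mapHomologicalComplex _).obj (injectiveResolution X).cocomplex)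
    (RDer.mapAug Φ (injectiveResolution X).ι)
  haveI : Mono (Φ.map ((tw X).i 0)) := inferInstance
  rw [← cancel_mono (Φ.map ((tw X).i 0)), ← Φ.map_comp, aug_i, Category.assoc]
  show aug (Φ.obj X) ≫ (cyclesMap d 0 ≫ _) ≫ Φ.map _ = _
  rw [Category.assoc]
  refine (congrArg (fun r => aug (Φ.obj X) ≫ cyclesMap d 0 ≫ r) (RDer.cyclesComparison_i Φ _ 0)).trans ?_
  rw [cyclesMap_i]
  refine (aug_i_assoc (Φ.obj X) _).trans ?_
  refine (RDer.ι_descToInjectives_f_zero (𝟙 (Φ.obj X)) _ _ _ _).trans ?_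
  simp [RDer.mapAug, HomologicalComplex.singleMapHomologicalComplex_inv_app_self]

/-- The first edge map on classes of cycles. -/
@[reassoc]
theorem pic_edgeIn [PreservesFiniteLimits (Φ ⋙ Ψ)] (X : A) (φ : Tower.Hom (tw (Φ.obj X)) ((tw X).map Φ))
    (h : aug (Φ.obj X) ≫ φ.z 0 = Φ.map (aug X)) (q : ℕ) :
    pic Ψ (Φ.obj X) q ≫ RDer.edgeIn Φ Ψ q X = Ψ.map (φ.z q) ≫ pic (Φ ⋙ Ψ) X q := by
  have h0 : φ.z 0 = (edgeInHom Φ X).z 0 := by rw [← cancel_epi (aug (Φ.obj X)), h, aug_edgeInHom]
  rw [Tower.Hom.map_z_comp_eq (tw_isExact _) φ (edgeInHom Φ X) h0 Ψ q _ (fun j e => by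
    subst e
    simpa using map_p_pic (Φ ⋙ Ψ) X j)]
  let I := injectiveResolution X
  let J := injectiveResolution (Φ.obj X)
  let d := RDer.descToInjectives (𝟙 (Φ.obj X)) J.cocomplex J.ι ((Φ.mapHomologicalComplex _).obj I.cocomplex)
    (RDer.mapAug Φ I.ι)
  rw [← cancel_epi (RDer.cyclesComparison Ψ J.cocomplex q), cyclesComparison_pic_assoc, RDer.edgeIn,
    Iso.inv_hom_id_assoc, homologyFunctor_map, homologyπ_naturality_assoc]
  have e : cyclesMap ((Ψ.mapHomologicalComplex _).map d) q ≫ RDer.cyclesComparison (Φ ⋙ Ψ) I.cocomplex q =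
      RDer.cyclesComparison Ψ J.cocomplex q ≫ Ψ.map ((edgeInHom Φ X).z q) := by
    rw [← cyclesComparison_comp Φ Ψ]
    refine (cyclesMap_cyclesComparison_assoc Ψ d q _).trans ?_
    rw [← Ψ.map_comp]
    rfl
  rw [← reassoc_of% e]
  refine (congrArg (cyclesMap ((Ψ.mapHomologicalComplex _).map d) q ≫ ·) (cyclesComparison_pic (Φ ⋙ Ψ) X q)).symm

end Groth.Agent.BcQCalc
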