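import Groth.Agent.BcQCalc.EdgeMaps
import Groth.Prelude.Def_EtBC2

/-!
# The base change morphism in each degree, on classes of cycles
-/

set_option autoImplicit false
set_option linter.unusedSectionVars false
set_option linter.style.haveILetI false
set_option backward.isDefEq.respectTransparency false
set_option backward.isDefEq.respectTransparency.types false

universe u

open CategoryTheory CategoryTheory.Limits AlgebraicGeometry

noncomputable section

namespace Groth.Agent.BcQCalc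

instance preservesFiniteLimits_push_comp {X Y Z : Scheme.{u}} (f : X ⟶ Y) (g : Y ⟶ Z) :
    PreservesFiniteLimits (EtCoh.push f ⋙ EtCoh.push g) :=
  comp_preservesFiniteLimits _ _

variable {X S X' S' : Scheme.{u}} (f : X ⟶ S) (g : S' ⟶ S) (f' : X' ⟶ S') (g' : X' ⟶ X)
  (w : g' ≫ f = f' ≫ g) [PreservesFiniteLimits (EtCoh.pull g')] (F : EtCoh.Ab X)

/-- The base change morphism on classes of cycles. -/
theorem bcQ_pic (φ : Tower.Hom ((tw F).map (EtCoh.pull g')) (tw ((EtCoh.pull g').obj F)))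
    (h : (EtCoh.pull g').map (aug F) ≫ φ.z 0 = aug ((EtCoh.pull g').obj F)) (q : ℕ) :
    (EtCoh.pull g).map (pic (EtCoh.push f) F q) ≫ EtBC.bcQ f g f' g' w q F =
      EtCoh.baseChange0 f g f' g' w ((tw F).Z q) ≫ (EtCoh.push f').map (φ.z q) ≫
        pic (EtCoh.push f') ((EtCoh.pull g').obj F) q := by
  let adj' := EtCoh.pullPushAdj g'
  let G := (EtCoh.pull g').obj F
  let unit := adj'.unit.app F
  obtain ⟨φ₁, hφ₁⟩ := Tower.Hom.exists_of (T' := tw ((EtCoh.push g').obj G)) (tw_isExact F)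
    (inv (aug F) ≫ unit ≫ aug ((EtCoh.push g').obj G))
  obtain ⟨φ₂, hφ₂⟩ := Tower.Hom.exists_of (T' := (tw G).map (EtCoh.push g')) (tw_isExact ((EtCoh.push g').obj G))
    (inv (aug ((EtCoh.push g').obj G)) ≫ (EtCoh.push g').map (aug G))
  have h₁ : aug F ≫ φ₁.z 0 = unit ≫ aug ((EtCoh.push g').obj G) := by rw [hφ₁, IsIso.hom_inv_id_assoc]
  have h₂ : aug ((EtCoh.push g').obj G) ≫ φ₂.z 0 = (EtCoh.push g').map (aug G) := by
    rw [hφ₂, IsIso.hom_inv_id_assoc]
  let ψ := Tower.Hom.transpose adj' φ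
  have h0 : (φ₁.comp φ₂).z 0 = ψ.z 0 := by
    rw [← cancel_epi (aug F), Tower.Hom.comp_z, reassoc_of% h₁, h₂]
    show _ = aug F ≫ adj'.homEquiv _ _ (φ.z 0)
    refine Eq.trans ?_ (adj'.homEquiv_naturality_left (aug F) (φ.z 0))
    exact ((congrArg (adj'.homEquiv _ _) h).trans (adj'.homEquiv_unit _ _ _)).symm
  let e := EtCoh.pushComp f g' ≪≫ EtCoh.pushCongr w ≪≫ (EtCoh.pushComp g f').symm
  have key : pic (EtCoh.push f) F q ≫ EtBC.bcQAdj f g f' g' w q F =
      ((EtCoh.push f).map (adj'.unit.app ((tw F).Z q)) ≫ e.hom.app ((EtCoh.pull g').obj ((tw F).Z q))) ≫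
        (EtCoh.push g).map ((EtCoh.push f').map (φ.z q) ≫ pic (EtCoh.push f') G q) := by
    have s1 : pic (EtCoh.push f) F q ≫ (EtCoh.Rpush f q).map unit =
        (EtCoh.push f).map (φ₁.z q) ≫ pic (EtCoh.push f) ((EtCoh.push g').obj G) q :=
      pic_rightDerived_map (EtCoh.push f) unit φ₁ h₁ q
    have s2 := pic_edgeIn (EtCoh.push g') (EtCoh.push f) G φ₂ h₂ q
    have s3 : pic (EtCoh.push g' ⋙ EtCoh.push f) G q ≫ (EtBC.RpushSquareIso f g f' g' w q).hom.app G =
        e.hom.app ((tw G).Z q) ≫ pic (EtCoh.push f' ⋙ EtCoh.push g) G q :=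
      pic_rightDerivedIso _ e G q
    have s4 := pic_edgeOut (EtCoh.push f') (EtCoh.push g) G q
    have s5 : (EtCoh.push f).map ((φ₁.comp φ₂).z q) ≫ pic (EtCoh.push g' ⋙ EtCoh.push f) G q =
        (EtCoh.push f).map (ψ.z q) ≫ pic (EtCoh.push g' ⋙ EtCoh.push f) G q :=
      Tower.Hom.map_z_comp_eq (tw_isExact F) (φ₁.comp φ₂) ψ h0 (EtCoh.push f) q _ fun j e => by
        subst e
        simpa using map_p_pic (EtCoh.push g' ⋙ EtCoh.push f) G j
    rw [Tower.Hom.comp_z, Functor.map_comp, Category.assoc] at s5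
    show pic (EtCoh.push f) F q ≫ (EtCoh.Rpush f q).map unit ≫ _ ≫ _ ≫ _ = _
    rw [reassoc_of% s1, reassoc_of% s2, reassoc_of% s5, reassoc_of% s3, s4]
    have hψ : ψ.z q = adj'.unit.app ((tw F).Z q) ≫ (EtCoh.push g').map (φ.z q) := adj'.homEquiv_unit _ _ _
    rw [hψ, Functor.map_comp, Functor.map_comp, Category.assoc, Category.assoc]
    refine congrArg ((EtCoh.push f).map (adj'.unit.app ((tw F).Z q)) ≫ ·) ?_
    exact (Category.assoc _ _ _).symm.trans
      ((congrArg (· ≫ _) (e.hom.naturality (φ.z q))).trans (Category.assoc _ _ _))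
  refine ((EtCoh.pullPushAdj g).homEquiv_naturality_left_symm _ _).symm.trans ?_
  rw [key, Adjunction.homEquiv_naturality_right_symm]
  dsimp only [EtCoh.baseChange0, e, Iso.trans_hom, Iso.symm_hom]
  simp only [NatTrans.comp_app, Category.assoc]
  rfl

end Groth.Agent.BcQCalc
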