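import Groth.Agent.BcQCalc.Sigma
import Groth.Agent.BcQCalc.Degree0
import Groth.Agent.BcQCalc.Exist
import Groth.Agent.EtAcycLib.Compose

/-!
# The stalk of the base change morphism is the pullback map between the strict localizations
-/

set_option autoImplicit false
set_option linter.unusedSectionVars false
set_option linter.unusedVariables false
set_option linter.style.haveILetI false
set_option backward.isDefEq.respectTransparency false
set_option backward.isDefEq.respectTransparency.types false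

universe u

open CategoryTheory CategoryTheory.Limits AlgebraicGeometry Opposite Abelian

noncomputable section

namespace Groth.Agent.BcQCalc

open RpushStalk

attribute [local instance] EtFound.pull_preservesFiniteLimits

section via

variable {T P Q : Scheme.{u}} {r : P ⟶ T} (m : Q ⟶ P) {t : Q ⟶ T} (hw : m ≫ r = t)

theorem viaK_naturality {G G' : EtCoh.Ab T} (v : G ⟶ G') {K K' : EtCoh.Ab Q} (κ : (EtCoh.pull t).obj G ⟶ K)
    (κ' : (EtCoh.pull t).obj G' ⟶ K') (k : K ⟶ K') (hk : (EtCoh.pull t).map v ≫ κ' = κ ≫ k) :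
    (EtCoh.pull m).map ((EtCoh.pull r).map v) ≫ viaK m hw G' κ' = viaK m hw G κ ≫ k := by
  unfold viaK
  rw [Category.assoc, Category.assoc, ← hk]
  refine (NatTrans.naturality_assoc (EtCore.pullComp m r).inv v _).trans ?_
  exact congrArg (_ ≫ ·) (NatTrans.naturality_assoc (EtCore.pullCongr hw).hom v _)

theorem isIso_viaK (G : EtCoh.Ab T) {K : EtCoh.Ab Q} (κ : (EtCoh.pull t).obj G ⟶ K) [IsIso κ] :
    IsIso (viaK m hw G κ) := by
  unfold viaK
  infer_instance

end via

theorem viaHom_naturality {T Y P Q : Scheme.{u}} (r : P ⟶ T) (m : Q ⟶ P) (r' : Q ⟶ Y) (e : Y ⟶ T)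
    (hw : m ≫ r = r' ≫ e) {G G' : EtCoh.Ab T} (v : G ⟶ G') :
    (EtCoh.pull m).map ((EtCoh.pull r).map v) ≫ viaHom r m r' e hw G' =
      viaHom r m r' e hw G ≫ (EtCoh.pull r').map ((EtCoh.pull e).map v) :=
  viaK_naturality m hw v ((EtCore.pullComp r' e).hom.app G) ((EtCore.pullComp r' e).hom.app G')
    ((EtCoh.pull r').map ((EtCoh.pull e).map v)) ((EtCore.pullComp r' e).hom.naturality v)

theorem isIso_viaHom {T Y P Q : Scheme.{u}} (r : P ⟶ T) (m : Q ⟶ P) (r' : Q ⟶ Y) (e : Y ⟶ T)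
    (hw : m ≫ r = r' ≫ e) (G : EtCoh.Ab T) : IsIso (viaHom r m r' e hw G) :=
  isIso_viaK m hw G ((EtCore.pullComp r' e).hom.app G)

/-- The morphism of towers over a square of schemes. -/
def squareHom {T Y P Q : Scheme.{u}} (r : P ⟶ T) (m : Q ⟶ P) (r' : Q ⟶ Y) (e : Y ⟶ T) (hw : m ≫ r = r' ≫ e)
    {U : Tower (EtCoh.Ab T)} {U' : Tower (EtCoh.Ab Y)} (φ : Tower.Hom (U.map (EtCoh.pull e)) U') :
    Tower.Hom ((U.map (EtCoh.pull r)).map (EtCoh.pull m)) (U'.map (EtCoh.pull r')) where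
  z j := viaHom r m r' e hw (U.Z j) ≫ (EtCoh.pull r').map (φ.z j)
  x j := viaHom r m r' e hw (U.X j) ≫ (EtCoh.pull r').map (φ.x j)
  comm_i j := by
    show (EtCoh.pull m).map ((EtCoh.pull r).map (U.i j)) ≫ viaHom r m r' e hw (U.X j) ≫ _ = _
    rw [← Category.assoc, viaHom_naturality, Category.assoc, Category.assoc]
    exact congrArg (_ ≫ ·) (((EtCoh.pull r').map_comp _ _).symm.trans
      ((congrArg (EtCoh.pull r').map (φ.comm_i j)).trans ((EtCoh.pull r').map_comp _ _)))
  comm_p j := by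
    show (EtCoh.pull m).map ((EtCoh.pull r).map (U.p j)) ≫ viaHom r m r' e hw (U.Z (j + 1)) ≫ _ = _
    rw [← Category.assoc, viaHom_naturality, Category.assoc, Category.assoc]
    exact congrArg (_ ≫ ·) (((EtCoh.pull r').map_comp _ _).symm.trans
      ((congrArg (EtCoh.pull r').map (φ.comm_p j)).trans ((EtCoh.pull r').map_comp _ _)))

/-- Bijectivity of pullback only depends on the sheaf up to isomorphism. -/
theorem bijective_Hpull_iso {P Q : Scheme.{u}} (m : Q ⟶ P) [PreservesFiniteLimits (EtCoh.pull m)]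
    {G G' : EtCoh.Ab P} (i : G ≅ G') (q : ℕ) :
    Function.Bijective (EtCore.Hpull m G q) ↔ Function.Bijective (EtCore.Hpull m G' q) := by
  have h : ⇑(EtCore.Hpull m G' q) ∘ (fun x : EtCoh.H P G q => x.comp (Ext.mk₀ i.hom) (add_zero q)) =
      (fun x : EtCoh.H Q ((EtCoh.pull m).obj G) q =>
        x.comp (Ext.mk₀ ((EtCoh.pull m).mapIso i).hom) (add_zero q)) ∘ ⇑(EtCore.Hpull m G q) :=
    funext fun x => S8536.Hpull_comp_mk₀ m i.hom q x
  have h1 := EtAcycLib.bijective_comp_mk₀ (A := EtCoh.const P ℤ) (n := q) i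
  have h2 := EtAcycLib.bijective_comp_mk₀ (A := EtCoh.const Q ℤ) (n := q) ((EtCoh.pull m).mapIso i)
  refine ⟨fun hb => ?_, fun hb => ?_⟩
  · exact (Function.Bijective.of_comp_iff _ h1).1 (h ▸ h2.comp hb)
  · exact (Function.Bijective.of_comp_iff' h2 _).1 (h ▸ hb.comp h1)

/-- Pulling back and transporting along an isomorphism. -/
theorem bijective_HpullThen_iff {P Q : Scheme.{u}} (m : Q ⟶ P) [PreservesFiniteLimits (EtCoh.pull m)]
    (G : EtCoh.Ab P) {K : EtCoh.Ab Q} (α : (EtCoh.pull m).obj G ⟶ K) [IsIso α] (q : ℕ) :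
    Function.Bijective (EtLim.HpullThen m G α q) ↔ Function.Bijective (EtCore.Hpull m G q) := by
  have h : ⇑(EtLim.HpullThen m G α q) = (fun x : EtCoh.H Q ((EtCoh.pull m).obj G) q =>
      x.comp (Ext.mk₀ (asIso α).hom) (add_zero q)) ∘ ⇑(EtCore.Hpull m G q) :=
    funext fun x => EtLim8.HpullThen_apply m G α q x
  rw [h]
  exact Function.Bijective.of_comp_iff' (EtAcycLib.bijective_comp_mk₀ (asIso α)) _

/-- Two surjections with equal kernels on both sides transport bijectivity. -/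
theorem bijective_iff_of_square {A A' B B' C C' : Type*} [AddCommGroup A] [AddCommGroup A'] [AddCommGroup B]
    [AddCommGroup B'] [AddCommGroup C] [AddCommGroup C'] (π : A →+ B) (σ : A →+ C) (π' : A' →+ B') (σ' : A' →+ C')
    (hπ : Function.Surjective π) (hσ : Function.Surjective σ) (hπ' : Function.Surjective π')
    (hσ' : Function.Surjective σ') (hk : ∀ a, π a = 0 ↔ σ a = 0) (hk' : ∀ a, π' a = 0 ↔ σ' a = 0)
    (a : A → A') (b : B → B') (c : C → C') (hb : ∀ z, b (π z) = π' (a z)) (hc : ∀ z, c (σ z) = σ' (a z)) :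
    Function.Bijective b ↔ Function.Bijective c := by
  obtain ⟨χ, hχ, hχe⟩ := exists_bijective_comp_eq π σ hπ hσ hk
  obtain ⟨χ', hχ', hχe'⟩ := exists_bijective_comp_eq π' σ' hπ' hσ' hk'
  have h : c ∘ χ = χ' ∘ b := funext fun x => by
    obtain ⟨z, rfl⟩ := hπ x
    rw [Function.comp_apply, Function.comp_apply, hχe, hc, hb, hχe']
  refine ⟨fun hb' => ?_, fun hc' => ?_⟩
  · exact (Function.Bijective.of_comp_iff _ hχ).1 (h ▸ hχ'.comp hb')
  · exact (Function.Bijective.of_comp_iff' hχ' _).1 (h ▸ hc'.comp hχ)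

variable {X S Y T : Scheme.{u}} (f : X ⟶ S) (g : T ⟶ S) (h : Y ⟶ X) (e : Y ⟶ T) (w : e ≫ g = h ≫ f)
  {RS RX : Type u} [CommRing RS] [HenselianLocalRing RS] [IsSepClosed (IsLocalRing.ResidueField RS)]
  [CommRing RX] [HenselianLocalRing RX] [IsSepClosed (IsLocalRing.ResidueField RX)]
  {hS : Spec (CommRingCat.of RS) ⟶ S} {hX : Spec (CommRingCat.of RX) ⟶ X}
  (DS : Model S RS hS) (DX : Model X RX hX) [QuasiCompact g] [QuasiSeparated g] [QuasiCompact h] [QuasiSeparated h]
  (ψ : Spec (CommRingCat.of RX) ⟶ Spec (CommRingCat.of RS)) (hψ : ψ ≫ hS = hX ≫ f)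
  (l : Spec (CommRingCat.of (IsLocalRing.ResidueField RX)) ⟶ Spec (CommRingCat.of (IsLocalRing.ResidueField RS)))
  (hl : l ≫ EtFound.cpt RS = EtFound.cpt RX ≫ ψ)

include DS DX hl in
/-- The stalk of the base change morphism is bijective iff the pullback between the strict localizations is. -/
theorem bijective_stalk_bcQ_iff [PreservesFiniteLimits (EtCoh.pull e)] (F : EtCoh.Ab T) (q : ℕ) :
    Function.Bijective ((EtCoh.stalk (EtFound.cpt RX ≫ hX)).map (EtBC.bcQ g f h e w q F)) ↔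
      Function.Bijective (EtCore.Hpull (fibMap f g h e w ψ hψ) ((EtCoh.pull (pullback.snd hS g)).obj F) q) := by
  let η := EtFound.cpt RX ≫ hX
  let lk := link f (EtFound.cpt RS ≫ hS) η l (lcomp f ψ hψ l hl)
  obtain ⟨φ, hφ⟩ := exists_pullHom e F
  let Φ := squareHom (pullback.snd hS g) (fibMap f g h e w ψ hψ) (pullback.snd hX h) e
    (fibMap_snd f g h e w ψ hψ) φ
  let a : ((EtCoh.stalk (EtFound.cpt RS ≫ hS)).obj ((EtCoh.push g).obj ((tw F).Z q))) →
      ((EtCoh.stalk η).obj ((EtCoh.push h).obj ((tw ((EtCoh.pull e).obj F)).Z q))) := fun z =>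
    (EtCoh.stalk η).map ((EtCoh.push h).map (φ.z q))
      ((EtCoh.stalk η).map (EtCoh.baseChange0 g f h e w ((tw F).Z q)) (lk.hom.app _ z))
  let b : ((EtCoh.stalk (EtFound.cpt RS ≫ hS)).obj ((EtCoh.Rpush g q).obj F)) →
      ((EtCoh.stalk η).obj ((EtCoh.Rpush h q).obj ((EtCoh.pull e).obj F))) := fun y =>
    (EtCoh.stalk η).map (EtBC.bcQ g f h e w q F) (lk.hom.app _ y)
  let c := EtLim.HpullThen (fibMap f g h e w ψ hψ) ((twPull hS g F).Z 0) (Φ.z 0) q
  have hb : ∀ z, b (piStalk hS g F q z) = piStalk hX h ((EtCoh.pull e).obj F) q (a z) := fun z => by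
    have n1 := ConcreteCategory.congr_hom (lk.hom.naturality (pic (EtCoh.push g) F q)) z
    have n2 := ConcreteCategory.congr_hom
      (congrArg (EtCoh.stalk η).map (bcQ_pic g f h e w F φ hφ q)) (lk.hom.app _ z)
    rw [Functor.map_comp, Functor.map_comp, Functor.map_comp] at n2
    exact (congrArg ((EtCoh.stalk η).map (EtBC.bcQ g f h e w q F)) n1).trans n2
  have hc : ∀ z, c (sigma hS g F q z) = sigma hX h ((EtCoh.pull e).obj F) q (a z) := fun z => by
    refine (HpullThen_cl (fibMap f g h e w ψ hψ) q (twPull hS g F) (twPull_isExact hS g F)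
      (twPull hX h ((EtCoh.pull e).obj F)) (twPull_isExact hX h _) Φ (gm _ (phiApp hS g ((tw F).Z q) z))).trans ?_
    refine congrArg (cl q (twPull hX h ((EtCoh.pull e).obj F)) (twPull_isExact hX h _)) ?_
    refine (HpullThen_gm (fibMap f g h e w ψ hψ) (Φ.z q) _).trans (congrArg (gm _) ?_)
    refine Eq.trans ?_ (ConcreteCategory.congr_hom (phiApp_naturality hX h (φ.z q))
      ((EtCoh.stalk η).map (EtCoh.baseChange0 g f h e w ((tw F).Z q)) (lk.hom.app _ z))).symm
    refine Eq.trans ?_ (congrArg _ (stalk_baseChange0 f g h e w ψ hψ l hl ((tw F).Z q) z)).symm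
    refine Eq.trans (congrArg (fun r => EtLim8.res (fibMap f g h e w ψ hψ) r
      (V := EtCoh.top (pullback hS g)) (W := EtCoh.top (pullback hX h)) (fibMap f g h e w ψ hψ)
      (EtLim8.top_w _) (phiApp hS g ((tw F).Z q) z)) ((EtCoh.pullPushAdj (fibMap f g h e w ψ hψ)).homEquiv_naturality_right
        (viaHom (pullback.snd hS g) (fibMap f g h e w ψ hψ) (pullback.snd hX h) e (fibMap_snd f g h e w ψ hψ) ((tw F).Z q))
        ((EtCoh.pull (pullback.snd hX h)).map (φ.z q)))) ?_
    exact EtLim8.res_comp_push_map _ _ _ _ _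
  have hbij := bijective_iff_of_square (piStalk hS g F q) (sigma hS g F q)
    (piStalk hX h ((EtCoh.pull e).obj F) q) (sigma hX h ((EtCoh.pull e).obj F) q)
    (piStalk_surjective hS g F q) (sigma_surjective hS g F DS q)
    (piStalk_surjective hX h _ q) (sigma_surjective hX h _ DX q)
    (ker_piStalk_eq hS g F DS q) (ker_piStalk_eq hX h _ DX q) a b c hb hc
  have hlk : Function.Bijective (lk.hom.app ((EtCoh.Rpush g q).obj F)) :=
    ConcreteCategory.bijective_of_isIso (lk.hom.app ((EtCoh.Rpush g q).obj F))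
  have hb' : Function.Bijective b ↔
      Function.Bijective ((EtCoh.stalk (EtFound.cpt RX ≫ hX)).map (EtBC.bcQ g f h e w q F)) :=
    Function.Bijective.of_comp_iff _ hlk
  rw [← hb', hbij]
  haveI : IsIso (φ.z 0) := by
    haveI : IsIso ((EtCoh.pull e).map (aug F) ≫ φ.z 0) := by rw [hφ]; infer_instance
    exact IsIso.of_isIso_comp_left ((EtCoh.pull e).map (aug F)) (φ.z 0)
  haveI : IsIso (Φ.z 0) := by
    haveI := isIso_viaHom (pullback.snd hS g) (fibMap f g h e w ψ hψ) (pullback.snd hX h) e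
      (fibMap_snd f g h e w ψ hψ) ((tw F).Z 0)
    exact IsIso.comp_isIso' ‹_› inferInstance
  exact (bijective_HpullThen_iff (fibMap f g h e w ψ hψ) ((twPull hS g F).Z 0) (Φ.z 0) q).trans
    (bijective_Hpull_iso (fibMap f g h e w ψ hψ)
      ((EtCoh.pull (pullback.snd hS g)).mapIso (asIso (aug F))) q).symm

end Groth.Agent.BcQCalc
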