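import Groth.Agent.H0PBC.Pull
import Groth.Agent.EtFound.FieldExt
import Groth.Agent.EtFound.PullGerm
import Groth.Prelude.Def_EtBase

/-!
# Stalks of inverse images at geometric points differing by a field extension
-/

set_option autoImplicit false
set_option linter.unusedSectionVars false
set_option linter.style.haveILetI false
set_option backward.isDefEq.respectTransparency false
set_option backward.isDefEq.respectTransparency.types false

universe u

open CategoryTheory CategoryTheory.Limits AlgebraicGeometry Opposite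

noncomputable section

namespace Groth.Agent.BcQCalc

variable {X S : Scheme.{u}} (f : X ⟶ S) {k Ω : Type u} [Field k] [IsSepClosed k] [Field Ω] [IsSepClosed Ω]
  (ξ : Spec (CommRingCat.of k) ⟶ S) (η : Spec (CommRingCat.of Ω) ⟶ X)
  (l : Spec (CommRingCat.of Ω) ⟶ Spec (CommRingCat.of k)) (hl : l ≫ ξ = η ≫ f)

/-- `A_ξ ≅ (f⁻¹ A)_η` when `η` lies over `ξ`. -/
def link : EtCoh.stalk ξ ≅ EtCoh.pull f ⋙ EtCoh.stalk η :=
  EtFound.stalkExtIso AddCommGrpCat.{u + 1} ξ l ≪≫
    eqToIso (congrArg (fun p => (Scheme.pointSmallEtale p).sheafFiber) hl) ≪≫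
    (EtFound.sheafFiberPullIso (A := AddCommGrpCat.{u + 1}) f η).symm

theorem eqToHom_germ {p p' : Spec (CommRingCat.of Ω) ⟶ S} (e : p = p') (A : EtCoh.Ab S) (V : S.Etale)
    (v : (Scheme.pointSmallEtale p).fiber.obj V) (v' : (Scheme.pointSmallEtale p').fiber.obj V)
    (hv : v.left = v'.left) :
    (Scheme.pointSmallEtale p).toPresheafFiber V v A.obj ≫
      (eqToHom (congrArg (fun r => (Scheme.pointSmallEtale r).sheafFiber (A := AddCommGrpCat.{u + 1})) e)).app A =
    (Scheme.pointSmallEtale p').toPresheafFiber V v' A.obj := by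
  subst e
  obtain rfl : v = v' := CategoryTheory.Over.OverMorphism.ext hv
  exact Category.comp_id _

theorem link_germ (A : EtCoh.Ab S) (V : S.Etale) (v : (Scheme.pointSmallEtale ξ).fiber.obj V)
    (t : (Scheme.pointSmallEtale η).fiber.obj ((EtCoh.bc f).obj V))
    (ht : (t.left : Spec (CommRingCat.of Ω) ⟶ pullback V.hom f) ≫ pullback.fst V.hom f =
      l ≫ (v.left : Spec (CommRingCat.of k) ⟶ V.left)) (s : A.obj.obj (op V)) :
    (link f ξ η l hl).hom.app A ((Scheme.pointSmallEtale ξ).toPresheafFiber V v A.obj s) =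
      (Scheme.pointSmallEtale η).toPresheafFiber ((EtCoh.bc f).obj V) t ((EtCoh.pull f).obj A).obj
        (((EtCoh.pullPushAdj f).unit.app A).hom.app (op V) s) := by
  have h1 : (Scheme.pointSmallEtale ξ).toPresheafFiber V v A.obj ≫
      (EtFound.stalkExtIso AddCommGrpCat.{u + 1} ξ l).hom.app A =
      (Scheme.pointSmallEtale (l ≫ ξ)).toPresheafFiber V ((EtFound.fiberExt ξ l).app V v) A.obj := by
    simp [EtFound.stalkExtIso, EtFound.pointExtIso, GrothendieckTopology.Point.Hom.presheafFiber]
  have h2 := eqToHom_germ hl A V ((EtFound.fiberExt ξ l).app V v) (EtFound.bcFiberEquiv f η V t) ht.symm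
  have h3 := EtFound.sheafFiberPullIso_germ (A := AddCommGrpCat.{u + 1}) f η A V t
  refine ConcreteCategory.congr_hom (?_ : (Scheme.pointSmallEtale ξ).toPresheafFiber V v A.obj ≫
    (link f ξ η l hl).hom.app A = ((EtCoh.pullPushAdj f).unit.app A).hom.app (op V) ≫
      (Scheme.pointSmallEtale η).toPresheafFiber ((EtCoh.bc f).obj V) t ((EtCoh.pull f).obj A).obj) s
  refine Eq.trans ?_ h3
  refine Eq.trans ?_ (congrArg (· ≫ (EtFound.sheafFiberPullIso f η).inv.app A) h2)
  simp only [link, Iso.trans_hom, NatTrans.comp_app, eqToIso.hom, Iso.symm_hom]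
  rw [← h1]
  simp only [Category.assoc]

end Groth.Agent.BcQCalc
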