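import Mathlib.CategoryTheory.Abelian.Injective.Basic
import Mathlib.Algebra.Homology.ShortComplex.ShortExact
import Mathlib.Algebra.Homology.ShortComplex.Abelian
import Mathlib.CategoryTheory.Preadditive.Injective.Preserves
import Mathlib.CategoryTheory.Adjunction.Additive

/-!
# Complexes cut into short pieces

A cochain complex together with its objects of cycles, seen as a sequence `Z j ⟶ X j ⟶ Z (j + 1)`.
-/

set_option autoImplicit false
set_option linter.unusedSectionVars false
set_option linter.style.haveILetI false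

universe v₁ v₂ u₁ u₂

open CategoryTheory CategoryTheory.Limits

namespace Groth.Agent.BcQCalc

variable {C : Type u₁} [Category.{v₁} C] [Abelian C] {D : Type u₂} [Category.{v₂} D] [Abelian D]

/-- A sequence `Z j ⟶ X j ⟶ Z (j + 1)` with vanishing composites. -/
structure Tower (C : Type u₁) [Category.{v₁} C] [Abelian C] where
  Z : ℕ → C
  X : ℕ → C
  i : ∀ j, Z j ⟶ X j
  p : ∀ j, X j ⟶ Z (j + 1)
  w : ∀ j, i j ≫ p j = 0

namespace Tower

attribute [reassoc (attr := simp)] Tower.w

/-- The short complexes of a tower. -/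
abbrev sc (T : Tower C) (j : ℕ) : ShortComplex C := ShortComplex.mk (T.i j) (T.p j) (T.w j)

/-- All the short complexes are short exact. -/
def IsExact (T : Tower C) : Prop := ∀ j, (T.sc j).ShortExact

/-- The image of a tower. -/
@[simps]
def map (T : Tower C) (F : C ⥤ D) [F.Additive] : Tower D where
  Z j := F.obj (T.Z j)
  X j := F.obj (T.X j)
  i j := F.map (T.i j)
  p j := F.map (T.p j)
  w j := by rw [← F.map_comp, T.w, F.map_zero]

theorem IsExact.map {T : Tower C} (hT : T.IsExact) (F : C ⥤ D) [F.Additive] [PreservesFiniteLimits F]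
    [PreservesFiniteColimits F] : (T.map F).IsExact :=
  fun j => (hT j).map_of_exact F

instance injective_map_X (T : Tower C) [∀ j, Injective (T.X j)] (F : C ⥤ D) [F.Additive]
    [F.PreservesInjectiveObjects] (j : ℕ) : Injective ((T.map F).X j) :=
  F.injective_obj (T.X j)

/-- Morphisms of towers. -/
@[ext]
structure Hom (T T' : Tower C) where
  z : ∀ j, T.Z j ⟶ T'.Z j
  x : ∀ j, T.X j ⟶ T'.X j
  comm_i : ∀ j, T.i j ≫ x j = z j ≫ T'.i j
  comm_p : ∀ j, T.p j ≫ z (j + 1) = x j ≫ T'.p j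

namespace Hom

variable {T T' T'' : Tower C}

/-- Composition. -/
@[simps]
def comp (φ : Hom T T') (ψ : Hom T' T'') : Hom T T'' where
  z j := φ.z j ≫ ψ.z j
  x j := φ.x j ≫ ψ.x j
  comm_i j := by rw [← Category.assoc, φ.comm_i, Category.assoc, ψ.comm_i, Category.assoc]
  comm_p j := by rw [← Category.assoc, φ.comm_p, Category.assoc, ψ.comm_p, Category.assoc]

/-- Identity. -/
@[simps]
def id (T : Tower C) : Hom T T where
  z j := 𝟙 _
  x j := 𝟙 _
  comm_i j := by simp
  comm_p j := by simp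

/-- Image under a functor. -/
@[simps]
def map (φ : Hom T T') (F : C ⥤ D) [F.Additive] : Hom (T.map F) (T'.map F) where
  z j := F.map (φ.z j)
  x j := F.map (φ.x j)
  comm_i j := (F.map_comp _ _).symm.trans ((congrArg F.map (φ.comm_i j)).trans (F.map_comp _ _))
  comm_p j := (F.map_comp _ _).symm.trans ((congrArg F.map (φ.comm_p j)).trans (F.map_comp _ _))

/-- Natural transformations act on towers. -/
@[simps]
def app {F G : C ⥤ D} [F.Additive] [G.Additive] (α : F ⟶ G) (T : Tower C) : Hom (T.map F) (T.map G) where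
  z j := α.app (T.Z j)
  x j := α.app (T.X j)
  comm_i j := α.naturality (T.i j)
  comm_p j := α.naturality (T.p j)

/-- Functors compose on towers. -/
@[simps]
def mapMap {E : Type*} [Category E] [Abelian E] (T : Tower C) (F : C ⥤ D) [F.Additive] (G : D ⥤ E) [G.Additive] :
    Hom ((T.map F).map G) (T.map (F ⋙ G)) where
  z j := 𝟙 _
  x j := 𝟙 _
  comm_i j := (Category.comp_id _).trans (Category.id_comp _).symm
  comm_p j := (Category.comp_id _).trans (Category.id_comp _).symm

/-- Transposition along an adjunction. -/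
@[simps]
def transpose {F : C ⥤ D} [F.Additive] {G : D ⥤ C} [G.Additive] (adj : F ⊣ G) {T : Tower C} {T' : Tower D}
    (φ : Hom (T.map F) T') : Hom T (T'.map G) where
  z j := adj.homEquiv _ _ (φ.z j)
  x j := adj.homEquiv _ _ (φ.x j)
  comm_i j := (adj.homEquiv_naturality_left (T.i j) (φ.x j)).symm.trans
    ((congrArg (adj.homEquiv _ _) (φ.comm_i j)).trans (adj.homEquiv_naturality_right (φ.z j) (T'.i j)))
  comm_p j := (adj.homEquiv_naturality_left (T.p j) (φ.z (j + 1))).symm.trans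
    ((congrArg (adj.homEquiv _ _) (φ.comm_p j)).trans (adj.homEquiv_naturality_right (φ.x j) (T'.p j)))

end Hom

/-- One step of the construction of a morphism into a tower with injective terms. -/
theorem exists_step {T T' : Tower C} (hT : T.IsExact) [∀ j, Injective (T'.X j)] (j : ℕ)
    (z : T.Z j ⟶ T'.Z j) : ∃ (x : T.X j ⟶ T'.X j) (z' : T.Z (j + 1) ⟶ T'.Z (j + 1)),
      T.i j ≫ x = z ≫ T'.i j ∧ T.p j ≫ z' = x ≫ T'.p j := by
  haveI : Mono (T.i j) := (hT j).mono_f
  haveI : Epi (T.sc j).g := (hT j).epi_g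
  let x := Injective.factorThru (z ≫ T'.i j) (T.i j)
  have hx : T.i j ≫ x = z ≫ T'.i j := Injective.comp_factorThru _ _
  have hk : (T.sc j).f ≫ x ≫ T'.p j = 0 := by
    show T.i j ≫ x ≫ T'.p j = 0
    rw [← Category.assoc, hx, Category.assoc, T'.w, comp_zero]
  obtain ⟨z', hz'⟩ := CokernelCofork.IsColimit.desc' (hT j).gIsCokernel (x ≫ T'.p j) hk
  exact ⟨x, z', hx, hz'⟩

/-- Morphisms into towers with injective terms exist. -/
theorem Hom.exists_of {T T' : Tower C} (hT : T.IsExact) [∀ j, Injective (T'.X j)] (z₀ : T.Z 0 ⟶ T'.Z 0) :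
    ∃ φ : Hom T T', φ.z 0 = z₀ := by
  choose x z' hx hz' using fun j z => exists_step (T' := T') hT j z
  let z : ∀ j, T.Z j ⟶ T'.Z j := fun j => Nat.rec (motive := fun j => T.Z j ⟶ T'.Z j) z₀ (fun j zj => z' j zj) j
  exact ⟨⟨z, fun j => x j (z j), fun j => hx j (z j), fun j => hz' j (z j)⟩, rfl⟩

/-- Two morphisms into a tower with injective terms agreeing at the bottom differ by boundaries. -/
theorem Hom.diff {T T' : Tower C} (hT : T.IsExact) [∀ j, Injective (T'.X j)] (φ ψ : Hom T T')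
    (h : φ.z 0 = ψ.z 0) (q : ℕ) :
    ∃ t : T.Z (q + 1) ⟶ T'.X q, φ.z (q + 1) = ψ.z (q + 1) + t ≫ T'.p q := by
  have step : ∀ j (s : T.X j ⟶ T'.X j), s ≫ T'.p j = 0 →
      T.i j ≫ (φ.x j - ψ.x j - s) = 0 → ∃ t : T.Z (j + 1) ⟶ T'.X j, φ.z (j + 1) = ψ.z (j + 1) + t ≫ T'.p j := by
    intro j s hs hk
    haveI : Epi (T.p j) := (hT j).epi_g
    obtain ⟨t, ht⟩ := CokernelCofork.IsColimit.desc' (hT j).gIsCokernel (φ.x j - ψ.x j - s) hk
    replace ht : T.p j ≫ t = φ.x j - ψ.x j - s := ht
    refine ⟨t, ?_⟩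
    rw [← cancel_epi (T.p j), Preadditive.comp_add, φ.comm_p, ψ.comm_p, ← Category.assoc (T.p j) t, ht,
      Preadditive.sub_comp, Preadditive.sub_comp, hs]
    abel
  induction q with
  | zero =>
    exact step 0 0 zero_comp (by rw [Preadditive.comp_sub, Preadditive.comp_sub, φ.comm_i, ψ.comm_i, h]; simp)
  | succ q ih =>
    obtain ⟨t, ht⟩ := ih
    haveI : Mono (T.i (q + 1)) := (hT (q + 1)).mono_f
    let s := Injective.factorThru t (T.i (q + 1)) ≫ T'.p q ≫ T'.i (q + 1)
    refine step (q + 1) s (by simp [s]) ?_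
    rw [Preadditive.comp_sub, Preadditive.comp_sub, φ.comm_i, ψ.comm_i, ht]
    simp [s, Preadditive.add_comp]

/-- A form of `Hom.diff` used to compare maps killing boundaries. -/
theorem Hom.map_z_comp_eq {T T' : Tower C} (hT : T.IsExact) [∀ j, Injective (T'.X j)] (φ ψ : Hom T T')
    (h : φ.z 0 = ψ.z 0) (Ψ : C ⥤ D) [Ψ.Additive] :
    ∀ (q : ℕ) {W : D} (k : Ψ.obj (T'.Z q) ⟶ W), (∀ j (e : j + 1 = q), Ψ.map (T'.p j ≫ eqToHom (by rw [e])) ≫ k = 0) →
      Ψ.map (φ.z q) ≫ k = Ψ.map (ψ.z q) ≫ k := by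
  intro q W k hk
  cases q with
  | zero => rw [h]
  | succ q =>
    obtain ⟨t, ht⟩ := Hom.diff hT φ ψ h q
    have h0 : Ψ.map (T'.p q) ≫ k = 0 := by simpa using hk q rfl
    rw [ht, Ψ.map_add, Ψ.map_comp, Preadditive.add_comp, Category.assoc, h0, comp_zero, add_zero]

end Tower

end Groth.Agent.BcQCalc
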